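import Groth.Agent.HensMod85.Pull
import Groth.Agent.Hens.Pair
import Mathlib.RingTheory.Flat.EquationalCriterion
import Mathlib.RingTheory.Flat.Localization

/-!
# Affine Henselian spectra and Henselizations of schemes are flat over the original
-/

set_option autoImplicit false
set_option linter.style.haveILetI false

universe u

open CategoryTheory CategoryTheory.Limits AlgebraicGeometry TopologicalSpace Opposite Topology

namespace Groth.Agent.HensMod85

noncomputable section

/-- The ring of sections of an affine Henselian spectrum is flat over the ring. -/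
theorem flat_of_isHensAway {A : Type u} [CommRing A] {I : Ideal A} {f : A} {B : Type u} [CommRing B]
    {φ : A →+* B} (h : HensSch.IsHensAway A I f B φ) : φ.Flat := by
  obtain ⟨hf, hB, huniv⟩ := h
  let A' := Localization.Away f
  let I' := I.map (algebraMap A A')
  let P := Hens.PairHenselization A' I'
  have hP := Hens.isPairHenselization_pairHenselization (A := A') (I := I')
  have hP1 : HenselianRing P (I'.map (algebraMap A' P)) := hP.1
  let g := (algebraMap A' P).comp (algebraMap A A')
  obtain ⟨a, ha, -⟩ := huniv P (I'.map (algebraMap A' P)) g hP1 (Ideal.map_map _ _).ge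
    ((IsLocalization.Away.algebraMap_isUnit (S := A') f).map (algebraMap A' P))
  let l : A' →+* B := IsLocalization.Away.lift f hf
  have hl : l.comp (algebraMap A A') = φ := RingHom.ext fun x => IsLocalization.Away.lift_eq f hf x
  obtain ⟨b, hb, -⟩ := hP.2 B (I.map φ) l hB (by rw [Ideal.map_map, hl])
  have hba : b.comp a = RingHom.id B := by
    obtain ⟨c, -, hu⟩ := huniv B (I.map φ) φ hB le_rfl hf
    refine (hu _ ?_).trans (hu _ (RingHom.id_comp φ)).symm
    show (b.comp a).comp φ = φ
    rw [RingHom.comp_assoc, ha]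
    show b.comp ((algebraMap A' P).comp (algebraMap A A')) = φ
    rw [← RingHom.comp_assoc, hb, hl]
  have hab : a.comp b = RingHom.id P := by
    obtain ⟨c, -, hu⟩ := hP.2 P (I'.map (algebraMap A' P)) (algebraMap A' P) hP1 le_rfl
    refine (hu _ ?_).trans (hu _ (RingHom.id_comp _)).symm
    refine IsLocalization.ringHom_ext (Submonoid.powers f) ?_
    show a.comp ((b.comp (algebraMap A' P)).comp (algebraMap A A')) = (algebraMap A' P).comp (algebraMap A A')
    rw [hb, hl]
    exact ha
  let e : P ≃+* B := RingEquiv.ofRingHom b a hba hab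
  have hg : g.Flat := RingHom.Flat.comp
    ((RingHom.flat_algebraMap_iff).2 (IsLocalization.flat A' (Submonoid.powers f)))
    ((RingHom.flat_algebraMap_iff).2 inferInstance)
  have : φ = e.toRingHom.comp g := by
    show φ = b.comp ((algebraMap A' P).comp (algebraMap A A'))
    rw [← RingHom.comp_assoc, hb, hl]
  rw [this]
  exact RingHom.Flat.comp hg (RingHom.Flat.of_bijective e.bijective)

variable {A : Type u} [CommRing A] {I : Ideal A} {X : LocallyRingedSpace.{u}} {π : X ⟶ HensSch.specLRS A}

theorem exists_dOpen_le (hπ : IsEmbedding π.base) (W : Opens X) {x : X} (hx : x ∈ W) :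
    ∃ f : A, x ∈ HensSch.dOpen π f ∧ HensSch.dOpen π f ≤ W := by
  obtain ⟨O', hO', hW⟩ := hπ.isInducing.isOpen_iff.1 W.isOpen
  have hx' : π.base x ∈ O' := by
    have : x ∈ (W : Set X) := hx
    rw [← hW] at this
    exact this
  obtain ⟨_, ⟨f, rfl⟩, hxf, hf⟩ :=
    PrimeSpectrum.isTopologicalBasis_basic_opens.exists_subset_of_mem_open hx' hO'
  refine ⟨f, hxf, fun y hy => ?_⟩
  show y ∈ (W : Set X)
  rw [← hW]
  exact hf hy

/-- The map from the ring to a stalk of its affine Henselian spectrum. -/
def toStalk (π : X ⟶ HensSch.specLRS A) (x : X) : A →+* X.presheaf.stalk x :=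
  (X.presheaf.germ ((Opens.map π.base).obj ⊤) x trivial).hom.comp
    (HensSch.secMap π ⊤)

theorem germ_secMap (π : X ⟶ HensSch.specLRS A) (U : Opens (PrimeSpectrum A)) (x : X)
    (hx : x ∈ (Opens.map π.base).obj U) (a : A) :
    X.presheaf.germ _ x hx (HensSch.secMap π U a) = toStalk π x a := by
  exact (X.presheaf.germ_res_apply _ x hx _).trans
    (X.presheaf.germ_res_apply ((Opens.map π.base).map (homOfLE (le_top : (⊤ : Opens (PrimeSpectrum A)) ≤ ⊤))) x trivial _).symm

theorem flat_toStalk (h : HensSch.IsSph A I X π) (x : X) : (toStalk π x).Flat := by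
  letI := (toStalk π x).toAlgebra
  show Module.Flat A (X.presheaf.stalk x)
  refine Module.Flat.of_forall_isTrivialRelation fun {l c z} hz => ?_
  classical
  choose U hU s hs using fun i => X.presheaf.exists_germ_eq (x := x) (z i)
  let W : Opens X := Finset.univ.inf U
  have hW : x ∈ W := by
    suffices ∀ S : Finset (Fin l), x ∈ S.inf U from this _
    intro S
    induction S using Finset.induction with
    | empty => simp
    | insert a S _ ih => rw [Finset.inf_insert]; exact ⟨hU a, ih⟩
  obtain ⟨f, hxf, hf⟩ := exists_dOpen_le h.1 W hW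
  let t : ∀ i, X.presheaf.obj (op (HensSch.dOpen π f)) := fun i =>
    X.presheaf.map (homOfLE (hf.trans (Finset.inf_le (Finset.mem_univ i)))).op (s i)
  have ht : ∀ i, X.presheaf.germ _ x hxf (t i) = z i := fun i =>
    (X.presheaf.germ_res_apply _ x hxf (s i)).trans (hs i)
  have h0 : X.presheaf.germ _ x hxf (∑ i, HensSch.secMap π (PrimeSpectrum.basicOpen f) (c i) * t i) =
      X.presheaf.germ _ x hxf 0 := by
    rw [map_sum, map_zero]
    exact (Finset.sum_congr rfl fun i _ => by rw [map_mul, germ_secMap, ht]; rfl).trans hz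
  obtain ⟨W', hxW', i₁, i₂, e⟩ := X.presheaf.germ_eq x hxf hxf _ _ h0
  obtain ⟨g, hxg, hg⟩ := exists_dOpen_le h.1 W' hxW'
  let φ := HensSch.secMap π (PrimeSpectrum.basicOpen g)
  letI := φ.toAlgebra
  haveI : Module.Flat A (X.presheaf.obj (op (HensSch.dOpen π g))) := flat_of_isHensAway (h.2.2 g)
  let r : X.presheaf.obj (op (HensSch.dOpen π f)) ⟶ X.presheaf.obj (op (HensSch.dOpen π g)) :=
    X.presheaf.map (homOfLE (hg.trans i₁.le)).op
  have hr : ∀ a, r (HensSch.secMap π (PrimeSpectrum.basicOpen f) a) = φ a := fun a => by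
    show X.presheaf.map _ (X.presheaf.map _ _) = X.presheaf.map _ _
    rw [← ConcreteCategory.comp_apply, ← Functor.map_comp]
    rfl
  have e' : ∑ i, c i • r (t i) = 0 := by
    have := congrArg (X.presheaf.map (homOfLE hg).op) e
    rw [← ConcreteCategory.comp_apply, ← ConcreteCategory.comp_apply, ← Functor.map_comp,
      ← Functor.map_comp, map_zero] at this
    change r (∑ i, HensSch.secMap π (PrimeSpectrum.basicOpen f) (c i) * t i) = 0 at this
    rw [map_sum] at this
    exact (Finset.sum_congr rfl fun i _ => by rw [map_mul, hr]; rfl).trans this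
  obtain ⟨k, a, y, hy, hy'⟩ := Module.Flat.iff_forall_isTrivialRelation.1
    (inferInstance : Module.Flat A (X.presheaf.obj (op (HensSch.dOpen π g)))) e'
  refine ⟨k, a, fun j => X.presheaf.germ _ x hxg (y j), fun i => ?_, hy'⟩
  have h1 : X.presheaf.germ _ x hxg (r (t i)) = z i :=
    (X.presheaf.germ_res_apply _ x hxg (t i)).trans (ht i)
  refine h1.symm.trans ((congrArg (X.presheaf.germ _ x hxg) (hy i)).trans ?_)
  rw [map_sum]
  exact Finset.sum_congr rfl fun j _ => by
    show X.presheaf.germ _ x hxg (φ (a i j) * y j) = toStalk π x (a i j) * _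
    rw [map_mul, germ_secMap]

/-- The affine Henselian spectrum is flat over the spectrum. -/
theorem flatStalks_of_isSph (h : HensSch.IsSph A I X π) : FlatStalks π := fun x => by
  let p : PrimeSpectrum A := π.base x
  let S := (Spec.structureSheaf A).presheaf.stalk p
  let ψ : S →+* X.presheaf.stalk x := (π.stalkMap x).hom
  show ψ.Flat
  letI := (toStalk π x).toAlgebra
  letI := ψ.toAlgebra
  have hψ : ψ.comp (algebraMap A S) = toStalk π x := RingHom.ext fun a => by
    refine (LocallyRingedSpace.stalkMap_germ_apply π ⊤ x trivial _).trans ?_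
    exact (X.presheaf.germ_res_apply ((Opens.map π.base).map (homOfLE (le_top : (⊤ : Opens (PrimeSpectrum A)) ≤ ⊤))) x trivial _).symm
  haveI : IsScalarTower A S (X.presheaf.stalk x) := .of_algebraMap_eq' hψ.symm
  haveI : Module.Flat A (X.presheaf.stalk x) := flat_toStalk h x
  show Module.Flat S (X.presheaf.stalk x)
  exact (Module.flat_iff_of_isLocalization (R := A) S p.asIdeal.primeCompl (X.presheaf.stalk x)).2 inferInstance

/-- Flatness at a point. -/
def FlatAt {X Y : LocallyRingedSpace.{u}} (g : X ⟶ Y) (x : X) : Prop := (g.stalkMap x).hom.Flat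

/-- The Henselization of a scheme along a closed subset is flat over the scheme. -/
theorem flatStalks_of_isHenselizationAlong {X : Scheme.{u}} {Y : Set X} {Xh : LocallyRingedSpace.{u}}
    {ι : Xh ⟶ X.toLocallyRingedSpace} (hh : HensSch.IsHenselizationAlong X Y Xh ι) : FlatStalks ι := by
  intro x
  obtain ⟨-, -, hr, hloc⟩ := hh
  obtain ⟨A, _, j, hj, hxj, V, v, hv, π, hvr, hcomm, hsph⟩ := hloc (ι.base x) (hr ▸ ⟨x, rfl⟩)
  obtain ⟨x₀, rfl⟩ : x ∈ Set.range v.base := hvr ▸ hxj
  haveI : IsIso (v.stalkMap x₀) := PresheafedSpace.IsOpenImmersion.stalk_iso v.toShHom.hom x₀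
  haveI : IsIso (j.toLRSHom.stalkMap (π.base x₀)) :=
    PresheafedSpace.IsOpenImmersion.stalk_iso j.toLRSHom.toShHom.hom (π.base x₀)
  have h1 : FlatAt (π ≫ j.toLRSHom) x₀ := by
    unfold FlatAt
    rw [LocallyRingedSpace.stalkMap_comp]
    exact RingHom.Flat.comp (RingHom.Flat.of_bijective
        (ConcreteCategory.bijective_of_isIso (j.toLRSHom.stalkMap (π.base x₀))))
      (flatStalks_of_isSph hsph x₀)
  rw [← hcomm] at h1
  unfold FlatAt at h1
  rw [LocallyRingedSpace.stalkMap_comp] at h1
  have h2 := RingHom.Flat.comp h1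
    (RingHom.Flat.of_bijective (ConcreteCategory.bijective_of_isIso (inv (v.stalkMap x₀))))
  change ((ι.stalkMap (v.base x₀) ≫ v.stalkMap x₀) ≫ inv (v.stalkMap x₀)).hom.Flat at h2
  rw [Category.assoc, IsIso.hom_inv_id, Category.comp_id] at h2
  exact h2

end

end Groth.Agent.HensMod85
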