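import Groth.Agent.HensMod85.Stalk
import Mathlib.Algebra.Category.ModuleCat.ChangeOfRings
import Mathlib.Algebra.Homology.ShortComplex.ExactFunctor
import Mathlib.CategoryTheory.Abelian.Exact
import Mathlib.RingTheory.RingHom.Flat
import Mathlib.RingTheory.Flat.FaithfullyFlat.Algebra

/-!
# Inverse images of modules along flat morphisms of locally ringed spaces
-/

set_option autoImplicit false

universe u

open CategoryTheory CategoryTheory.Limits AlgebraicGeometry TopologicalSpace Opposite

namespace Groth.Agent.HensMod85

noncomputable section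

variable {X Y : LocallyRingedSpace.{u}} (g : X ⟶ Y) (x : X)

/-- The comparison of the pushed skyscraper with the skyscraper of the restriction. -/
def pushSkyHom (N : ModuleCat.{u} (X.presheaf.stalk x)) :
    (HensSch.pushMod g).obj (sky x N) ⟶
      sky (g.base x) ((ModuleCat.restrictScalars (g.stalkMap x).hom).obj N) :=
  ⟨PresheafOfModules.homMk
    { app := fun U => AddCommGrpCat.ofHom
        (AddMonoidHom.mk' (fun s h => (show PLift (x ∈ (Opens.map g.base).obj U.unop) → N from s) ⟨h.down⟩)
          fun _ _ => rfl)
      naturality := fun {U V} i => by ext s; rfl }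
    (fun U r s => funext fun h =>
      congrArg (fun c : X.presheaf.stalk x =>
          c • (show PLift (x ∈ (Opens.map g.base).obj U.unop) → N from s) ⟨h.down⟩)
        (LocallyRingedSpace.stalkMap_germ_apply g U.unop x h.down r).symm)⟩

theorem pushSkyHom_app (N : ModuleCat.{u} (X.presheaf.stalk x)) (U : Opens Y)
    (s : sec ((HensSch.pushMod g).obj (sky x N)) U) (h : PLift (g.base x ∈ U)) :
    skyVal (app (pushSkyHom g x N) U s) h =
      (show PLift (x ∈ (Opens.map g.base).obj U) → N from s) ⟨h.down⟩ := rfl

instance isIso_pushSkyHom (N : ModuleCat.{u} (X.presheaf.stalk x)) : IsIso (pushSkyHom g x N) := by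
  haveI : IsIso (pushSkyHom g x N).val := by
    haveI : ∀ U, IsIso (((PresheafOfModules.toPresheaf _).map (pushSkyHom g x N).val).app U) := fun U => by
      rw [ConcreteCategory.isIso_iff_bijective]
      exact ⟨fun a b h => funext fun q => congr_fun h ⟨q.down⟩, fun s => ⟨fun h => s ⟨h.down⟩, rfl⟩⟩
    haveI : IsIso ((PresheafOfModules.toPresheaf _).map (pushSkyHom g x N).val) := NatIso.isIso_of_isIso_app _
    exact isIso_of_reflects_iso _ (PresheafOfModules.toPresheaf _)
  haveI : IsIso ((SheafOfModules.forget (ModSite.ringSh Y.sheaf)).map (pushSkyHom g x N)) := ‹IsIso (pushSkyHom g x N).val›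
  exact isIso_of_reflects_iso _ (SheafOfModules.forget (ModSite.ringSh Y.sheaf))

/-- Skyscrapers commute with direct images. -/
def pushSkyIso :
    skyF x ⋙ HensSch.pushMod g ≅ ModuleCat.restrictScalars (g.stalkMap x).hom ⋙ skyF (g.base x) :=
  NatIso.ofComponents (fun N => @asIso _ _ _ _ (pushSkyHom g x N) (isIso_pushSkyHom g x N)) fun {N N'} f =>
    hom_ext fun U s => funext fun h =>
      (skyMap_app x f ((Opens.map g.base).obj U) s ⟨h.down⟩).trans
        (skyMap_app (g.base x) ((ModuleCat.restrictScalars (g.stalkMap x).hom).map f) U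
          (app (pushSkyHom g x N) U s) h).symm

/-- The stalk of the inverse image is the base change of the stalk. -/
def stalkPullIso :
    HensSch.pullMod g ⋙ stalkF X x ≅ stalkF Y (g.base x) ⋙ ModuleCat.extendScalars (g.stalkMap x).hom :=
  ((((HensSch.pullPushAdj g).comp (stalkSkyAdj x))).leftAdjointUniq
    (((stalkSkyAdj (g.base x)).comp (ModuleCat.extendRestrictScalarsAdj (g.stalkMap x).hom)).ofNatIsoRight
      (pushSkyIso g x).symm))

theorem extendScalars_map_injective {A B : Type u} [CommRing A] [CommRing B] (φ : A →+* B) (hφ : φ.Flat)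
    {M N : ModuleCat.{u} A} (f : M ⟶ N) (hf : Function.Injective f.hom) :
    Function.Injective ((ModuleCat.extendScalars φ).map f).hom := by
  let := φ.toAlgebra
  have : Module.Flat A B := hφ
  exact Module.Flat.lTensor_preserves_injective_linearMap (M := B) f.hom hf

/-- A morphism of locally ringed spaces which is flat on stalks. -/
def FlatStalks : Prop := ∀ x : X, (g.stalkMap x).hom.Flat

theorem preservesMonomorphisms_pullMod (hg : FlatStalks g) : (HensSch.pullMod g).PreservesMonomorphisms where
  preserves {M N} f _ := mono_of_stalk_injective _ fun x => by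
    have hn := (stalkPullIso g x).hom.naturality f
    have h₁ : Function.Injective
        ((ModuleCat.extendScalars (g.stalkMap x).hom).map ((stalkF Y (g.base x)).map f)).hom :=
      extendScalars_map_injective _ (hg x) _ (stalk_map_injective (g.base x) f)
    intro a b h
    apply ((stalkPullIso g x).app M).toLinearEquiv.injective
    apply h₁
    exact (LinearMap.congr_fun (congrArg ModuleCat.Hom.hom hn) a).symm.trans
      ((congrArg ((stalkPullIso g x).hom.app N).hom h).trans
        (LinearMap.congr_fun (congrArg ModuleCat.Hom.hom hn) b))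

theorem preservesFiniteLimits_pullMod (hg : FlatStalks g) : PreservesFiniteLimits (HensSch.pullMod g) := by
  haveI : (HensSch.rmor g).fn.IsContinuous (Opens.grothendieckTopology Y.toTopCat) (Opens.grothendieckTopology X.toTopCat) :=
    (HensSch.rmor g).isContinuous
  haveI : (HensSch.pushMod g).Additive := ⟨fun {_ _ _ _} => rfl⟩
  haveI : (HensSch.pullMod g).Additive := (HensSch.pullPushAdj g).left_adjoint_additive
  haveI := preservesMonomorphisms_pullMod g hg
  haveI : PreservesColimitsOfSize.{0, 0} (HensSch.pullMod g) :=
    (HensSch.pullPushAdj g).leftAdjoint_preservesColimits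
  haveI : (HensSch.pullMod g).PreservesHomology :=
    Functor.preservesHomology_of_preservesMonos_and_cokernels _
  exact Functor.preservesFiniteLimits_of_preservesHomology _

/-- Along a flat local homomorphism of stalks, a morphism killed by the inverse image is zero at the stalk. -/
theorem stalk_eq_zero_of_pull_eq_zero (hg : (g.stalkMap x).hom.Flat) {M N : ModSite.Mod Y.sheaf} (f : M ⟶ N)
    (hf : (HensSch.pullMod g).map f = 0) : (stalkF Y (g.base x)).map f = 0 := by
  have hn := (stalkPullIso g x).hom.naturality f
  have h0 : (stalkF X x).map ((HensSch.pullMod g).map f) = 0 := by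
    rw [hf]
    exact ModuleCat.hom_ext (stalk_hom_ext fun U hy m =>
      (stalkLin_germ _ U x hy m).trans (map_zero ((pab _).germ U x hy).hom))
  let := (g.stalkMap x).hom.toAlgebra
  haveI : Module.Flat (Y.presheaf.stalk (g.base x)) (X.presheaf.stalk x) := hg
  haveI : IsLocalHom (algebraMap (Y.presheaf.stalk (g.base x)) (X.presheaf.stalk x)) :=
    inferInstanceAs (IsLocalHom (g.stalkMap x).hom)
  haveI : Module.FaithfullyFlat (Y.presheaf.stalk (g.base x)) (X.presheaf.stalk x) :=
    Module.FaithfullyFlat.of_flat_of_isLocalHom
  have h1 : (ModuleCat.extendScalars (g.stalkMap x).hom).map ((stalkF Y (g.base x)).map f) = 0 := by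
    rw [← cancel_epi ((stalkPullIso g x).hom.app M)]
    exact (hn.symm.trans (by rw [Functor.comp_map, h0, zero_comp])).trans comp_zero.symm
  have h2 : ((stalkF Y (g.base x)).map f).hom.lTensor (X.presheaf.stalk x) = 0 :=
    LinearMap.ext fun t => LinearMap.congr_fun (congrArg ModuleCat.Hom.hom h1) t
  exact ModuleCat.hom_ext ((Module.FaithfullyFlat.zero_iff_lTensor_zero _ _ _).2 h2)

end

end Groth.Agent.HensMod85
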