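import Groth.Prelude.Def_HensSch
import Mathlib.Algebra.Category.ModuleCat.Stalk
import Mathlib.Topology.Sheaves.SheafCondition.UniqueGluing
import Mathlib.Topology.Sheaves.Stalks

/-!
# Stalks and skyscrapers of modules on a locally ringed space

`stalkF X x : ModSite.Mod X.sheaf ⥤ ModuleCat O_{X,x}` is left adjoint to the skyscraper functor;
monomorphisms are detected and preserved by stalks.
-/

set_option autoImplicit false

universe u

open CategoryTheory CategoryTheory.Limits AlgebraicGeometry TopologicalSpace Opposite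

namespace Groth.Agent.HensMod85

noncomputable section

variable {X : LocallyRingedSpace.{u}}

/-- The underlying presheaf of modules. -/
abbrev pv (M : ModSite.Mod X.sheaf) : PresheafOfModules.{u} (X.presheaf ⋙ forget₂ CommRingCat RingCat) :=
  M.val

/-- The underlying presheaf of abelian groups. -/
abbrev pab (M : ModSite.Mod X.sheaf) : TopCat.Presheaf Ab.{u} X.toTopCat :=
  PresheafOfModules.presheaf (pv M)

/-- The stalk. -/
abbrev st (M : ModSite.Mod X.sheaf) (x : X) : Type u :=
  ↑(TopCat.Presheaf.stalk (pab M) x)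

/-- Sections. -/
abbrev sec (M : ModSite.Mod X.sheaf) (U : Opens X) : Type u := (pv M).obj (op U)

instance moduleSec (M : ModSite.Mod X.sheaf) (U : Opens X) :
    Module (X.presheaf.obj (op U)) (sec M U) :=
  inferInstanceAs (Module ((X.presheaf ⋙ forget₂ CommRingCat RingCat).obj (op U)) ((pv M).obj (op U)))

/-- The germ of a section of a module. -/
abbrev germ (M : ModSite.Mod X.sheaf) (U : Opens X) (x : X) (hx : x ∈ U) (m : sec M U) : st M x :=
  (pab M).germ U x hx m

theorem germ_smul (M : ModSite.Mod X.sheaf) (U : Opens X) (x : X) (hx : x ∈ U) (r : X.presheaf.obj (op U))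
    (m : sec M U) : germ M U x hx (r • m) = X.presheaf.germ U x hx r • germ M U x hx m :=
  PresheafOfModules.germ_smul (R := X.presheaf) (pv M) x U hx r m

theorem exists_germ_eq (M : ModSite.Mod X.sheaf) (x : X) (t : st M x) :
    ∃ (U : Opens X) (hx : x ∈ U) (m : sec M U), germ M U x hx m = t := by
  obtain ⟨U, hx, m, hm⟩ := (pab M).exists_germ_eq (x := x) t
  exact ⟨U, hx, m, hm⟩

theorem exists_germ_smul_eq (M : ModSite.Mod X.sheaf) (x : X) (r : X.presheaf.stalk x) (t : st M x) :
    ∃ (W : Opens X) (hx : x ∈ W) (a : X.presheaf.obj (op W)) (m : sec M W),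
      X.presheaf.germ W x hx a = r ∧ germ M W x hx m = t ∧ germ M W x hx (a • m) = r • t := by
  obtain ⟨U, hx, m, rfl⟩ := exists_germ_eq M x t
  obtain ⟨V, hxV, r, rfl⟩ := X.presheaf.exists_germ_eq (x := x) r
  have hW : x ∈ U ⊓ V := ⟨hx, hxV⟩
  have e1 : X.presheaf.germ (U ⊓ V) x hW (X.presheaf.map (homOfLE (inf_le_right : U ⊓ V ≤ V)).op r) =
      X.presheaf.germ V x hxV r := X.presheaf.germ_res_apply _ x hW r
  have e2 : germ M (U ⊓ V) x hW ((pab M).map (homOfLE (inf_le_left : U ⊓ V ≤ U)).op m) = germ M U x hx m :=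
    (pab M).germ_res_apply _ x hW m
  exact ⟨U ⊓ V, hW, _, _, e1, e2, (germ_smul M _ x hW _ _).trans (by rw [e1]; exact congrArg _ e2)⟩

/-- The underlying morphism of presheaves of abelian groups. -/
abbrev pabMap {M N : ModSite.Mod X.sheaf} (φ : M ⟶ N) : pab M ⟶ pab N :=
  (PresheafOfModules.toPresheaf _).map φ.val

/-- A morphism on sections. -/
abbrev app {M N : ModSite.Mod X.sheaf} (φ : M ⟶ N) (U : Opens X) (m : sec M U) : sec N U :=
  (pabMap φ).app (op U) m

theorem app_smul {M N : ModSite.Mod X.sheaf} (φ : M ⟶ N) (U : Opens X) (r : X.presheaf.obj (op U))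
    (m : sec M U) : app φ U (r • m) = r • app φ U m :=
  map_smul (φ.val.app (op U)).hom r m

/-- The linear map on stalks. -/
def stalkLin {M N : ModSite.Mod X.sheaf} (φ : M ⟶ N) (x : X) : st M x →ₗ[X.presheaf.stalk x] st N x where
  toFun := (TopCat.Presheaf.stalkFunctor Ab x).map (pabMap φ)
  map_add' := map_add ((TopCat.Presheaf.stalkFunctor Ab x).map (pabMap φ)).hom
  map_smul' r t := by
    obtain ⟨W, hW, a, m, e1, e2, e3⟩ := exists_germ_smul_eq M x r t
    have g1 : (TopCat.Presheaf.stalkFunctor Ab x).map (pabMap φ) (germ M W x hW (a • m)) =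
        germ N W x hW (app φ W (a • m)) := TopCat.Presheaf.stalkFunctor_map_germ_apply W x hW (pabMap φ) _
    have g2 : (TopCat.Presheaf.stalkFunctor Ab x).map (pabMap φ) (germ M W x hW m) =
        germ N W x hW (app φ W m) := TopCat.Presheaf.stalkFunctor_map_germ_apply W x hW (pabMap φ) m
    rw [e3] at g1
    rw [e2] at g2
    refine g1.trans ?_
    refine ((congrArg (germ N W x hW) (app_smul φ W a m)).trans (germ_smul N W x hW a _)).trans ?_
    exact (congrArg₂ (fun (c : X.presheaf.stalk x) (v : st N x) => c • v) e1 g2.symm :)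

theorem stalkLin_germ {M N : ModSite.Mod X.sheaf} (φ : M ⟶ N) (U : Opens X) (x : X) (hx : x ∈ U)
    (m : sec M U) : stalkLin φ x (germ M U x hx m) = germ N U x hx (app φ U m) :=
  TopCat.Presheaf.stalkFunctor_map_germ_apply U x hx (pabMap φ) m

/-- Two linear maps on a stalk agree when they agree on germs. -/
theorem stalk_hom_ext {M : ModSite.Mod X.sheaf} {x : X} {N : Type u} [AddCommGroup N]
    [Module (X.presheaf.stalk x) N] {f g : st M x →ₗ[X.presheaf.stalk x] N}
    (h : ∀ (U : Opens X) (hx : x ∈ U) (m : sec M U), f (germ M U x hx m) = g (germ M U x hx m)) :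
    f = g :=
  LinearMap.ext fun t => by
    obtain ⟨U, hx, m, rfl⟩ := exists_germ_eq M x t
    exact h U hx m

variable (X) in
/-- The stalk functor. -/
def stalkF (x : X) : ModSite.Mod X.sheaf ⥤ ModuleCat.{u} (X.presheaf.stalk x) where
  obj M := ModuleCat.of _ (st M x)
  map φ := ModuleCat.ofHom (stalkLin φ x)
  map_id M := ModuleCat.hom_ext (stalk_hom_ext fun U hx m => stalkLin_germ (𝟙 M) U x hx m)
  map_comp {M N P} φ ψ := ModuleCat.hom_ext (stalk_hom_ext fun U hx m => by
    refine (stalkLin_germ (φ ≫ ψ) U x hx m).trans ?_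
    exact Eq.symm ((congrArg (stalkLin ψ x) (stalkLin_germ φ U x hx m)).trans
      (stalkLin_germ ψ U x hx (app φ U m))))

variable (x : X) (N : Type u) [AddCommGroup N] [Module (X.presheaf.stalk x) N]

/-- The abelian presheaf `U ↦ (x ∈ U → N)`. -/
def skyAb : TopCat.Presheaf Ab.{u} X.toTopCat where
  obj U := AddCommGrpCat.of (PLift (x ∈ U.unop) → N)
  map {U V} i := AddCommGrpCat.ofHom
    { toFun := fun g h => g ⟨leOfHom i.unop h.down⟩
      map_zero' := rfl
      map_add' := fun _ _ => rfl }

instance skyModule (U : (Opens X)ᵒᵖ) :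
    Module ((ModSite.ringSh X.sheaf).obj.obj U) ((skyAb x N).obj U) :=
  letI : ∀ _ : PLift (x ∈ U.unop), Module (X.presheaf.obj U) N := fun h =>
    Module.compHom N (X.presheaf.germ U.unop x h.down).hom
  inferInstanceAs (Module (X.presheaf.obj U) (PLift (x ∈ U.unop) → N))

theorem skyAb_isSheaf : TopCat.Presheaf.IsSheaf (skyAb x N) := by
  rw [TopCat.Presheaf.isSheaf_iff_isSheafUniqueGluing]
  intro ι U sf hsf
  classical
  have hex : ∀ h : PLift (x ∈ iSup U), ∃ i, x ∈ U i := fun h => Opens.mem_iSup.mp h.down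
  refine ⟨fun h => sf (hex h).choose ⟨(hex h).choose_spec⟩, fun i => ?_, fun g hg => ?_⟩
  · funext h
    have hi : x ∈ U i := h.down
    let j := (hex ⟨Opens.mem_iSup.mpr ⟨i, hi⟩⟩).choose
    have hj : x ∈ U j := (hex ⟨Opens.mem_iSup.mpr ⟨i, hi⟩⟩).choose_spec
    exact congr_fun (hsf j i) ⟨⟨hj, hi⟩⟩
  · funext h
    exact congr_fun (hg (hex h).choose) ⟨(hex h).choose_spec⟩

/-- The skyscraper module. -/
def sky : ModSite.Mod X.sheaf :=
  ⟨PresheafOfModules.ofPresheaf (R := (ModSite.ringSh X.sheaf).obj) (skyAb x N)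
    (fun {U V} i r g => by
      funext h
      exact congrArg (fun s : X.presheaf.stalk x => s • (show N from g ⟨leOfHom i.unop h.down⟩))
        (X.presheaf.germ_res_apply i.unop x h.down r).symm),
    skyAb_isSheaf x N⟩

variable {x N}

/-- A section of the skyscraper as a function. -/
abbrev skyVal {U : Opens X} (s : sec (sky x N) U) : PLift (x ∈ U) → N := s

theorem skyVal_smul {U : Opens X} (r : X.presheaf.obj (op U)) (s : sec (sky x N) U) (h : PLift (x ∈ U)) :
    skyVal (r • s) h = X.presheaf.germ U x h.down r • skyVal s h := rfl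

/-- A linear map on the stalk gives a morphism to the skyscraper. -/
def toSky {M : ModSite.Mod X.sheaf} (φ : st M x →ₗ[X.presheaf.stalk x] N) : M ⟶ sky x N :=
  ⟨PresheafOfModules.homMk
    { app := fun U => AddCommGrpCat.ofHom
        (AddMonoidHom.mk' (fun m (h : PLift (x ∈ U.unop)) => φ (germ M U.unop x h.down m)) fun a b => by
          funext h
          exact (congrArg φ (map_add ((pab M).germ U.unop x h.down).hom a b)).trans (map_add φ _ _))
      naturality := fun {U V} i => by
        ext m
        funext h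
        exact congrArg φ ((pab M).germ_res_apply i.unop x h.down m) }
    (fun U r m => by
      funext h
      exact (congrArg φ (germ_smul M U.unop x h.down r m)).trans
        (map_smul φ (X.presheaf.germ U.unop x h.down r) _))⟩

variable {M : ModSite.Mod X.sheaf}

theorem toSky_app (φ : st M x →ₗ[X.presheaf.stalk x] N) (U : Opens X) (m : sec M U) (h : PLift (x ∈ U)) :
    skyVal (app (toSky φ) U m) h = φ (germ M U x h.down m) := rfl

/-- Evaluation at `x`, on sections. -/
def evalSky (ψ : M ⟶ sky x N) (U : Opens X) (hx : x ∈ U) : sec M U →+ N :=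
  (Pi.evalAddMonoidHom (fun _ : PLift (x ∈ U) => N) ⟨hx⟩).comp ((pabMap ψ).app (op U)).hom

/-- A morphism to the skyscraper gives an additive map on the stalk. -/
def ofSkyAdd (ψ : M ⟶ sky x N) : TopCat.Presheaf.stalk (pab M) x ⟶ AddCommGrpCat.of N :=
  colimit.desc _
    { pt := AddCommGrpCat.of N
      ι :=
        { app := fun U => AddCommGrpCat.ofHom (evalSky ψ U.unop.1 U.unop.2)
          naturality := fun {U V} i => by
            ext m
            exact congr_fun (NatTrans.naturality_apply (pabMap ψ)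
              ((OpenNhds.inclusion x).map i.unop).op m) ⟨V.unop.2⟩ } }

theorem ofSkyAdd_germ (ψ : M ⟶ sky x N) (U : Opens X) (hx : x ∈ U) (m : sec M U) :
    ofSkyAdd ψ (germ M U x hx m) = evalSky ψ U hx m := by
  refine (ConcreteCategory.congr_hom ((colimit.ι_desc
    (F := (OpenNhds.inclusion x).op ⋙ pab M) _ (op (⟨U, hx⟩ : OpenNhds x)))) m :)

/-- A morphism to the skyscraper gives a linear map on the stalk. -/
def ofSky (ψ : M ⟶ sky x N) : st M x →ₗ[X.presheaf.stalk x] N where
  toFun := ofSkyAdd ψ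
  map_add' := map_add (ofSkyAdd ψ).hom
  map_smul' r t := by
    obtain ⟨W, hW, a, m, e1, e2, e3⟩ := exists_germ_smul_eq M x r t
    have g1 := ofSkyAdd_germ ψ W hW (a • m)
    have g2 := ofSkyAdd_germ ψ W hW m
    rw [e3] at g1
    rw [e2] at g2
    refine g1.trans ?_
    show _ = r • ofSkyAdd ψ t
    rw [g2, ← e1]
    exact congr_fun (app_smul ψ W a m) ⟨hW⟩

theorem ofSky_germ (ψ : M ⟶ sky x N) (U : Opens X) (hx : x ∈ U) (m : sec M U) :
    ofSky ψ (germ M U x hx m) = skyVal (app ψ U m) ⟨hx⟩ :=
  ofSkyAdd_germ ψ U hx m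

theorem hom_ext {M N : ModSite.Mod X.sheaf} {φ ψ : M ⟶ N} (h : ∀ (U : Opens X) (m : sec M U), app φ U m = app ψ U m) :
    φ = ψ :=
  SheafOfModules.hom_ext (PresheafOfModules.hom_ext fun U =>
    ModuleCat.hom_ext (LinearMap.ext fun m => h U.unop m))

theorem toSky_ofSky (ψ : M ⟶ sky x N) : toSky (ofSky ψ) = ψ :=
  hom_ext fun U m => funext fun h => (toSky_app _ U m h).trans (ofSky_germ ψ U h.down m)

theorem ofSky_toSky (φ : st M x →ₗ[X.presheaf.stalk x] N) : ofSky (toSky φ) = φ :=
  stalk_hom_ext fun U hx m => (ofSky_germ _ U hx m).trans (toSky_app φ U m ⟨hx⟩)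

variable (x)

/-- Pushing a linear map into skyscrapers. -/
def skyMap {N N' : ModuleCat.{u} (X.presheaf.stalk x)} (f : N ⟶ N') : sky x N ⟶ sky x N' :=
  toSky (f.hom.comp (ofSky (𝟙 (sky x N))))

theorem skyMap_app {N N' : ModuleCat.{u} (X.presheaf.stalk x)} (f : N ⟶ N') (U : Opens X)
    (g : sec (sky x N) U) (h : PLift (x ∈ U)) :
    skyVal (app (skyMap x f) U g) h = f.hom (skyVal g h) :=
  (toSky_app _ U g h).trans (congrArg f.hom (ofSky_germ (𝟙 (sky x N)) U h.down g))

/-- The skyscraper functor. -/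
def skyF : ModuleCat.{u} (X.presheaf.stalk x) ⥤ ModSite.Mod X.sheaf where
  obj N := sky x N
  map f := skyMap x f
  map_id N := hom_ext fun U g => funext fun h => skyMap_app x (𝟙 N) U g h
  map_comp {N N' N''} f g := hom_ext fun U a => funext fun h =>
    (skyMap_app x (f ≫ g) U a h).trans
      ((congrArg g.hom (skyMap_app x f U a h)).symm.trans (skyMap_app x g U _ h).symm)

/-- The stalk is left adjoint to the skyscraper. -/
def stalkSkyAdj : stalkF X x ⊣ skyF x :=
  Adjunction.mkOfHomEquiv
    { homEquiv := fun M N =>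
        { toFun := fun φ => toSky φ.hom
          invFun := fun ψ => ModuleCat.ofHom (ofSky ψ)
          left_inv := fun φ => ModuleCat.hom_ext (ofSky_toSky φ.hom)
          right_inv := fun ψ => toSky_ofSky ψ }
      homEquiv_naturality_left_symm := fun {M M' N} f g => ModuleCat.hom_ext (stalk_hom_ext fun U hx m => by
        refine (ofSky_germ (f ≫ g) U hx m).trans ?_
        refine Eq.trans ?_ (congrArg (ofSky g) (stalkLin_germ f U x hx m)).symm
        exact (ofSky_germ g U hx (app f U m)).symm)
      homEquiv_naturality_right := fun {M N N'} φ f => hom_ext fun U m => funext fun h =>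
        ((skyMap_app x f U (app (toSky φ.hom) U m) h).trans (congrArg f.hom (toSky_app φ.hom U m h))).symm }

theorem stalk_map_injective {M N : ModSite.Mod X.sheaf} (φ : M ⟶ N) [Mono φ] :
    Function.Injective ((stalkF X x).map φ).hom := by
  have happ : ∀ U : Opens X, Function.Injective ((pabMap φ).app (op U)) := fun U => by
    haveI : Mono φ.val := (SheafOfModules.forget (ModSite.ringSh X.sheaf)).map_mono φ
    have hm := (inferInstance : Mono ((PresheafOfModules.evaluation _ (op U)).map φ.val))
    exact (ModuleCat.mono_iff_injective _).1 hm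
  exact TopCat.Presheaf.stalkFunctor_map_injective_of_app_injective (fun U => happ U) x

theorem mono_of_stalk_injective {M N : ModSite.Mod X.sheaf} (φ : M ⟶ N)
    (h : ∀ y : X, Function.Injective ((stalkF X y).map φ).hom) : Mono φ := by
  refine ⟨fun {P} a b e => hom_ext fun U p => ?_⟩
  refine TopCat.Presheaf.section_ext (F := ⟨pab M, M.isSheaf⟩) U _ _ fun y hy => ?_
  refine h y ?_
  refine (stalkLin_germ φ U y hy _).trans (Eq.trans ?_ (stalkLin_germ φ U y hy _).symm)
  exact congrArg (fun χ => germ N U y hy (app χ U p)) e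

/-- A morphism with zero stalk maps is zero. -/
theorem eq_zero_of_stalk {M N : ModSite.Mod X.sheaf} (φ : M ⟶ N)
    (h : ∀ y : X, (stalkF X y).map φ = 0) : φ = 0 := by
  refine hom_ext fun U m => ?_
  refine TopCat.Presheaf.section_ext (F := ⟨pab N, N.isSheaf⟩) U _ _ fun y hy => ?_
  refine ((stalkLin_germ φ U y hy m).symm.trans ?_).trans (map_zero ((pab N).germ U y hy).hom).symm
  exact LinearMap.congr_fun (congrArg ModuleCat.Hom.hom (h y)) (germ M U y hy m)

end

end Groth.Agent.HensMod85
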