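import Groth.Agent.HensMod85.VanPair
import Mathlib.AlgebraicGeometry.AffineScheme

/-!
# The universal property of the Henselization of a scheme along a closed subset
-/

set_option autoImplicit false
set_option linter.style.haveILetI false

universe u

open CategoryTheory CategoryTheory.Limits AlgebraicGeometry TopologicalSpace Opposite Topology

namespace Groth.Agent.HensMod85

noncomputable section

/-- Equal morphisms agree on germs. -/
theorem germ_congr_hom {P Q : LocallyRingedSpace.{u}} {f f' : P ⟶ Q} (h : f = f') (O : Opens Q) (x : P)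
    (hx : f.base x ∈ O) (hx' : f'.base x ∈ O) (s : Q.presheaf.obj (op O)) :
    (f.stalkMap x).hom (G O (f.base x) hx s) = (f'.stalkMap x).hom (G O (f'.base x) hx' s) := by
  subst h; rfl

theorem stalkMap_G {P Q : LocallyRingedSpace.{u}} (f : P ⟶ Q) (O : Opens Q) (x : P) (hx : f.base x ∈ O)
    (s : Q.presheaf.obj (op O)) :
    (f.stalkMap x).hom (G O (f.base x) hx s) = G ((Opens.map f.base).obj O) x hx (f.c.app (op O) s) :=
  LocallyRingedSpace.stalkMap_germ_apply f O x hx s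

theorem toStalk_eq {A : Type u} [CommRing A] {V : LocallyRingedSpace.{u}} (π : V ⟶ HensSch.specLRS A)
    (x : V) (a : A) :
    toStalk π x a = (π.stalkMap x).hom (G ⊤ (π.base x) trivial ((Scheme.ΓSpecIso (CommRingCat.of A)).inv a)) := by
  refine Eq.trans ?_ (stalkMap_G π ⊤ x trivial _).symm
  exact V.presheaf.germ_res_apply ((Opens.map π.base).map (homOfLE (le_top : (⊤ : Opens (PrimeSpectrum A)) ≤ ⊤))) x trivial _

theorem isUnit_toStalk_iff {A : Type u} [CommRing A] {V : LocallyRingedSpace.{u}} (π : V ⟶ HensSch.specLRS A)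
    (x : V) (a : A) : IsUnit (toStalk π x a) ↔ π.base x ∈ PrimeSpectrum.basicOpen a :=
  S17949.isUnit_germ_secMap_iff π ⊤ a (x := x) trivial

/-- An affine chart of a Henselization. -/
structure Chart {X : Scheme.{u}} (Y : Set X) {Xh : LocallyRingedSpace.{u}} (ι : Xh ⟶ X.toLocallyRingedSpace) where
  /-- the affine open -/
  U0 : X.Opens
  hU0 : IsAffineOpen U0
  /-- its ring -/
  A : Type u
  /-- the ring structure -/
  [ring : CommRing A]
  /-- the chart -/
  V : LocallyRingedSpace.{u}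
  /-- the inclusion of the chart -/
  v : V ⟶ Xh
  [hv : LocallyRingedSpace.IsOpenImmersion v]
  /-- the structure map -/
  π : V ⟶ HensSch.specLRS A
  /-- the ideal -/
  I : Ideal A
  sph : HensSch.IsSph A I V π
  mem_range : ∀ x : Xh, ι.base x ∈ U0 → x ∈ Set.range v.base
  range_mem : ∀ x₀ : V, ι.base (v.base x₀) ∈ U0
  /-- the identification of the ring -/
  ψ : Γ(X, U0) ≃+* A
  key : ∀ (x₀ : V) (s : Γ(X, U0)),
    (v.stalkMap x₀).hom ((ι.stalkMap (v.base x₀)).hom (G (X := X.toLocallyRingedSpace) U0 _ (range_mem x₀) s)) =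
      toStalk π x₀ (ψ s)

attribute [instance] Chart.ring Chart.hv

variable {X : Scheme.{u}} {Y : Set X} {Xh : LocallyRingedSpace.{u}} {ι : Xh ⟶ X.toLocallyRingedSpace}

theorem exists_chart (hh : HensSch.IsHenselizationAlong X Y Xh ι) (x : Xh) :
    ∃ c : Chart Y ι, ι.base x ∈ c.U0 := by
  obtain ⟨-, -, hr, hloc⟩ := hh
  obtain ⟨A, _, j, hj, hxj, V, v, hv, π, hvr, hcomm, hsph⟩ := hloc (ι.base x) (hr ▸ ⟨x, rfl⟩)
  let U0 : X.Opens := j.opensRange
  haveI : IsIso (j.app U0) := j.isIso_app U0 le_rfl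
  have hpre : j ⁻¹ᵁ U0 = ⊤ := j.preimage_opensRange
  let m : Γ(X, U0) ⟶ CommRingCat.of A :=
    j.app U0 ≫ (Spec (CommRingCat.of A)).presheaf.map (eqToHom hpre.symm).op ≫ (Scheme.ΓSpecIso (CommRingCat.of A)).hom
  have hrange : ∀ x₀ : V, ι.base (v.base x₀) ∈ U0 := fun x₀ => by
    have : v.base x₀ ∈ ι.base ⁻¹' Set.range j.base := hvr ▸ ⟨x₀, rfl⟩
    exact this
  refine ⟨{ U0 := U0, hU0 := isAffineOpen_opensRange j, A := A, V := V, v := v, π := π,
            I := _, sph := hsph, mem_range := fun x' hx' => ?_, range_mem := hrange,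
            ψ := (asIso m).commRingCatIsoToRingEquiv, key := fun x₀ s => ?_ }, hxj⟩
  · rw [hvr]; exact hx'
  · have h1 : (v ≫ ι).base x₀ ∈ U0 := hrange x₀
    have h2 : (π ≫ j.toLRSHom).base x₀ ∈ U0 := ⟨π.base x₀, rfl⟩
    have e1 := germ_congr_hom hcomm U0 x₀ h1 h2 s
    rw [LocallyRingedSpace.stalkMap_comp, LocallyRingedSpace.stalkMap_comp] at e1
    refine e1.trans ?_
    rw [toStalk_eq]
    refine congrArg (π.stalkMap x₀).hom ?_
    refine (stalkMap_G j.toLRSHom U0 (π.base x₀) h2 s).trans ?_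
    have e2 : (Scheme.ΓSpecIso (CommRingCat.of A)).inv (m s) =
        (Spec (CommRingCat.of A)).presheaf.map (eqToHom hpre.symm).op (j.app U0 s) := by
      show (m ≫ (Scheme.ΓSpecIso (CommRingCat.of A)).inv) s = _
      simp [m]
    refine Eq.trans ?_ (congrArg (G (X := HensSch.specLRS A) ⊤ (π.base x₀) trivial) e2).symm
    exact ((Spec (CommRingCat.of A)).presheaf.germ_res_apply (eqToHom hpre.symm) (π.base x₀) trivial _).symm

variable {Z : LocallyRingedSpace.{u}} (g : Z ⟶ X.toLocallyRingedSpace)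

/-- A ring map on stalks lifting `g`. -/
def IsLift (z : Z) (x : Xh) (h : Xh.presheaf.stalk x →+* Z.presheaf.stalk z) : Prop :=
  ∀ (O : Opens X) (hx : ι.base x ∈ O) (hz : g.base z ∈ O) (s : Γ(X, O)),
    h ((ι.stalkMap x).hom (G (X := X.toLocallyRingedSpace) O _ hx s)) =
      (g.stalkMap z).hom (G (X := X.toLocallyRingedSpace) O _ hz s)

/-- Two maps out of stalks at the same point agree when they agree on an affine neighbourhood. -/
theorem two_homs {p q : X} (e : p = q) {T : Type u} [CommRing T] (σ : X.presheaf.stalk p →+* T)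
    (τ : X.presheaf.stalk q →+* T) (U : X.Opens) (hU : IsAffineOpen U) (hp : p ∈ U) (hq : q ∈ U)
    (h : ∀ s, σ (G (X := X.toLocallyRingedSpace) U p hp s) = τ (G (X := X.toLocallyRingedSpace) U q hq s))
    (O : X.Opens) (hpO : p ∈ O) (hqO : q ∈ O) (s : Γ(X, O)) :
    σ (G (X := X.toLocallyRingedSpace) O p hpO s) = τ (G (X := X.toLocallyRingedSpace) O q hqO s) := by
  subst e
  letI := TopCat.Presheaf.algebra_section_stalk X.presheaf (⟨p, hp⟩ : U)
  haveI := hU.isLocalization_stalk ⟨p, hp⟩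
  exact RingHom.congr_fun (IsLocalization.ringHom_ext (hU.primeIdealOf ⟨p, hp⟩).asIdeal.primeCompl
    (RingHom.ext h) : σ = τ) _

variable (c : Chart Y ι)

/-- The open of `Z` over the chart. -/
abbrev Chart.pre : Opens Z := (Opens.map g.base).obj c.U0

/-- The map from the ring of the chart to the sections of `Z` over it. -/
def Chart.lamW {W : Opens Z} (hW : W ≤ c.pre g) : c.A →+* Z.presheaf.obj (op W) :=
  (res hW).comp ((g.c.app (op c.U0)).hom.comp c.ψ.symm.toRingHom)

/-- The map from the ring of the chart to a stalk of `Z`. -/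
def Chart.lam (z : Z) (hz : g.base z ∈ c.U0) : c.A →+* Z.presheaf.stalk z :=
  (G (c.pre g) z hz).comp ((g.c.app (op c.U0)).hom.comp c.ψ.symm.toRingHom)

theorem Chart.G_lamW {W : Opens Z} (hW : W ≤ c.pre g) (z : Z) (hz : z ∈ W) (a : c.A) :
    G W z hz (c.lamW g hW a) = c.lam g z (hW hz) a :=
  G_res hW z hz _

theorem Chart.lam_eq (z : Z) (hz : g.base z ∈ c.U0) (a : c.A) :
    c.lam g z hz a = (g.stalkMap z).hom (G (X := X.toLocallyRingedSpace) c.U0 _ hz (c.ψ.symm a)) :=
  (stalkMap_G g c.U0 z hz _).symm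

theorem Chart.isUnit_lam_iff {z : Z} (hz : g.base z ∈ c.U0) {x₀ : c.V}
    (e : ι.base (c.v.base x₀) = g.base z) (a : c.A) :
    IsUnit (c.lam g z hz a) ↔ c.π.base x₀ ∈ PrimeSpectrum.basicOpen a := by
  rw [c.lam_eq g z hz, isUnit_map_iff]
  refine Iff.trans ?_ (isUnit_toStalk_iff c.π x₀ a)
  conv_rhs => rw [← c.ψ.apply_symm_apply a]
  rw [← c.key x₀, isUnit_map_iff (c.v.stalkMap x₀).hom, isUnit_map_iff (ι.stalkMap (c.v.base x₀)).hom]
  have : ∀ (p q : X) (_ : p = q) (hp : p ∈ c.U0) (hq : q ∈ c.U0),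
      IsUnit (G (X := X.toLocallyRingedSpace) c.U0 q hq (c.ψ.symm a)) ↔
        IsUnit (G (X := X.toLocallyRingedSpace) c.U0 p hp (c.ψ.symm a)) := by
    rintro p q rfl hp hq; rfl
  exact this _ _ e _ _

variable (b : Z → Xh) (hb : ∀ z, ι.base (b z) = g.base z)

include hb in
theorem Chart.exists_point (z : Z) (hz : g.base z ∈ c.U0) : ∃ x₀ : c.V, c.v.base x₀ = b z :=
  c.mem_range (b z) (by rw [hb]; exact hz)

include hb in
theorem Chart.map_I_le {W : Opens Z} (hW : W ≤ c.pre g) : c.I.map (c.lamW g hW) ≤ van W :=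
  Ideal.map_le_iff_le_comap.2 fun i hi => mem_van.2 fun z hz => by
    rw [c.G_lamW g hW z hz, IsLocalRing.mem_maximalIdeal, mem_nonunits_iff]
    intro hu
    obtain ⟨x₀, hx₀⟩ := c.exists_point g b hb z (hW hz)
    have h1 : c.π.base x₀ ∈ PrimeSpectrum.zeroLocus (c.I : Set c.A) := c.sph.2.1 ▸ ⟨x₀, rfl⟩
    exact (c.isUnit_lam_iff g (hW hz) (by rw [hx₀, hb]) i).1 hu (h1 hi)

include hb in
theorem Chart.map_I_le_stVan (z : Z) (hz : g.base z ∈ c.U0) : c.I.map (c.lam g z hz) ≤ stVan z :=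
  Ideal.map_le_iff_le_comap.2 fun i hi => by
    have := G_mem_stVan (W := c.pre g) hz
      (c.map_I_le g b hb (le_refl (c.pre g)) (Ideal.mem_map_of_mem _ hi))
    rwa [c.G_lamW g le_rfl z hz] at this

/-- A lift on the stalk of a chart. -/
def Chart.IsLift₀ (z : Z) (hz : g.base z ∈ c.U0) (x₀ : c.V)
    (h : c.V.presheaf.stalk x₀ →+* Z.presheaf.stalk z) : Prop :=
  h.comp (toStalk c.π x₀) = c.lam g z hz

include hb in
theorem Chart.existsUnique_lift₀ (hZ : HensSch.IsHensScheme Z) (z : Z) (hz : g.base z ∈ c.U0) (x₀ : c.V)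
    (hx₀ : c.v.base x₀ = b z) :
    ∃! h, c.IsLift₀ g z hz x₀ h := by
  classical
  have huf : ∀ f : c.A, x₀ ∈ HensSch.dOpen c.π f → IsUnit (c.lam g z hz f) := fun f hf =>
    (c.isUnit_lam_iff g hz (by rw [hx₀, hb]) f).2 hf
  have hu : ∀ f : c.A, x₀ ∈ HensSch.dOpen c.π f →
      ∃! h : c.V.presheaf.obj (op (HensSch.dOpen c.π f)) →+* Z.presheaf.stalk z,
        h.comp (HensSch.secMap c.π (PrimeSpectrum.basicOpen f)) = c.lam g z hz := fun f hf =>
    (c.sph.2.2 f).2.2 _ (stVan z) (c.lam g z hz) (henselianRing_stVan hZ z)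
      (c.map_I_le_stVan g b hb z hz) (huf f hf)
  have hgerm : ∀ (h : c.V.presheaf.stalk x₀ →+* Z.presheaf.stalk z) (f : c.A) (hf : x₀ ∈ HensSch.dOpen c.π f),
      c.IsLift₀ g z hz x₀ h → h.comp (G (HensSch.dOpen c.π f) x₀ hf) = (hu f hf).choose := by
    intro h f hf hh
    refine (hu f hf).choose_spec.2 _ ?_
    show (h.comp (G _ x₀ hf)).comp (HensSch.secMap c.π (PrimeSpectrum.basicOpen f)) = _
    refine (RingHom.ext fun a => ?_).trans hh
    exact congrArg h (germ_secMap c.π _ x₀ hf a)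
  have hres : ∀ (f k : c.A) (hf : x₀ ∈ HensSch.dOpen c.π f) (hk : x₀ ∈ HensSch.dOpen c.π k)
      (hle : HensSch.dOpen c.π k ≤ HensSch.dOpen c.π f),
      (hu k hk).choose.comp (res hle) = (hu f hf).choose := by
    intro f k hf hk hle
    refine (hu f hf).choose_spec.2 _ (Eq.trans ?_ (hu k hk).choose_spec.1)
    show ((hu k hk).choose.comp (res hle)).comp _ = _
    rw [RingHom.comp_assoc]
    congr 1
    refine RingHom.ext fun a => ?_
    show c.V.presheaf.map _ (c.V.presheaf.map _ _) = c.V.presheaf.map _ _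
    rw [← ConcreteCategory.comp_apply, ← Functor.map_comp]
    rfl
  choose φ hφx hφle using fun D : (OpenNhds x₀)ᵒᵖ => exists_dOpen_le c.sph.1 D.unop.1 D.unop.2
  let σ : ∀ D : (OpenNhds x₀)ᵒᵖ, c.V.presheaf.obj (op D.unop.1) →+* Z.presheaf.stalk z := fun D =>
    (hu (φ D) (hφx D)).choose.comp (res (hφle D))
  have hσ : ∀ (D : (OpenNhds x₀)ᵒᵖ) (f : c.A) (hf : x₀ ∈ HensSch.dOpen c.π f)
      (hle : HensSch.dOpen c.π f ≤ D.unop.1), (hu f hf).choose.comp (res hle) = σ D := by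
    intro D f hf hle
    obtain ⟨k, hk, hkle⟩ := exists_dOpen_le c.sph.1 (HensSch.dOpen c.π f ⊓ HensSch.dOpen c.π (φ D))
      ⟨hf, hφx D⟩
    have e1 := hres f k hf hk (hkle.trans inf_le_left)
    have e2 := hres (φ D) k (hφx D) hk (hkle.trans inf_le_right)
    show _ = (hu (φ D) (hφx D)).choose.comp _
    rw [← e1, ← e2, RingHom.comp_assoc, RingHom.comp_assoc]
    congr 1
    refine RingHom.ext fun a => ?_
    show c.V.presheaf.map _ (c.V.presheaf.map _ _) = c.V.presheaf.map _ (c.V.presheaf.map _ _)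
    rw [← ConcreteCategory.comp_apply, ← ConcreteCategory.comp_apply, ← Functor.map_comp, ← Functor.map_comp]
    rfl
  let cc : Cocone ((OpenNhds.inclusion x₀).op ⋙ c.V.presheaf) :=
    { pt := CommRingCat.of (Z.presheaf.stalk z)
      ι :=
        { app := fun D => CommRingCat.ofHom (σ D)
          naturality := fun D E i => CommRingCat.hom_ext (RingHom.ext fun s => by
            have hle : HensSch.dOpen c.π (φ E) ≤ D.unop.1 := (hφle E).trans
              (leOfHom ((OpenNhds.inclusion x₀).map i.unop))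
            show σ E (c.V.presheaf.map _ s) = σ D s
            rw [← hσ D (φ E) (hφx E) hle]
            show (hu (φ E) (hφx E)).choose (res (hφle E) (c.V.presheaf.map _ s)) = _
            refine congrArg _ ?_
            show c.V.presheaf.map _ (c.V.presheaf.map _ _) = c.V.presheaf.map _ _
            rw [← ConcreteCategory.comp_apply]
            exact ConcreteCategory.congr_hom ((c.V.presheaf.map_comp _ _).symm.trans
              (congrArg _ (Subsingleton.elim _ _))) s) } }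
  let h : c.V.presheaf.stalk x₀ →+* Z.presheaf.stalk z := (colimit.desc _ cc).hom
  have hh : ∀ (D : Opens c.V) (hD : x₀ ∈ D) (s : c.V.presheaf.obj (op D)),
      h (G D x₀ hD s) = σ (op ⟨D, hD⟩) s := fun D hD s =>
    (ConcreteCategory.congr_hom (colimit.ι_desc cc (op ⟨D, hD⟩)) s :)
  refine ⟨h, RingHom.ext fun a => ?_, fun h' hh' => ?_⟩
  · let D : (OpenNhds x₀)ᵒᵖ := op ⟨(Opens.map c.π.base).obj ⊤, trivial⟩
    refine (hh ((Opens.map c.π.base).obj ⊤) trivial (HensSch.secMap c.π ⊤ a)).trans ?_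
    refine Eq.trans ?_ (RingHom.congr_fun (hu (φ D) (hφx D)).choose_spec.1 a)
    refine congrArg (hu (φ D) (hφx D)).choose ?_
    show c.V.presheaf.map _ (c.V.presheaf.map _ _) = c.V.presheaf.map _ _
    rw [← ConcreteCategory.comp_apply]
    exact ConcreteCategory.congr_hom ((c.V.presheaf.map_comp _ _).symm.trans
      (congrArg _ (Subsingleton.elim _ _))) _
  · refine RingHom.ext fun t => ?_
    obtain ⟨D, hD, s, rfl⟩ := exists_G_eq x₀ t
    rw [hh D hD]
    obtain ⟨f, hf, hfle⟩ := exists_dOpen_le c.sph.1 D hD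
    rw [← hσ (op ⟨D, hD⟩) f hf hfle, ← hgerm h' f hf hh']
    show h' _ = h' (G _ x₀ hf (res hfle s))
    rw [G_res]

theorem Chart.isIso_stalkMap (x₀ : c.V) : IsIso (c.v.stalkMap x₀) :=
  PresheafedSpace.IsOpenImmersion.stalk_iso c.v.toShHom.hom x₀

theorem Chart.isLift_iff (z : Z) (hz : g.base z ∈ c.U0) (x₀ : c.V)
    (e : ι.base (c.v.base x₀) = g.base z) (h : c.V.presheaf.stalk x₀ →+* Z.presheaf.stalk z) :
    c.IsLift₀ g z hz x₀ h ↔ IsLift (ι := ι) g z (c.v.base x₀) (h.comp (c.v.stalkMap x₀).hom) := by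
  constructor
  · intro hh O hx hz' s
    refine two_homs e ((h.comp (c.v.stalkMap x₀).hom).comp (ι.stalkMap (c.v.base x₀)).hom)
      (g.stalkMap z).hom c.U0 c.hU0 (c.range_mem x₀) hz (fun s => ?_) O hx hz' s
    show h ((c.v.stalkMap x₀).hom ((ι.stalkMap _).hom _)) = _
    rw [c.key]
    refine (RingHom.congr_fun hh _).trans ?_
    rw [c.lam_eq g z hz, RingEquiv.symm_apply_apply]
  · intro hh
    refine RingHom.ext fun a => ?_
    rw [RingHom.comp_apply, c.lam_eq g z hz]
    conv_lhs => rw [← c.ψ.apply_symm_apply a, ← c.key x₀]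
    exact hh c.U0 (c.range_mem x₀) hz (c.ψ.symm a)

include hb in
theorem existsUnique_lift (hh : HensSch.IsHenselizationAlong X Y Xh ι) (hZ : HensSch.IsHensScheme Z) (z : Z) :
    ∃! h, IsLift (ι := ι) g z (b z) h := by
  obtain ⟨c, hc⟩ := exists_chart hh (b z)
  have hz : g.base z ∈ c.U0 := by rw [← hb]; exact hc
  obtain ⟨x₀, hx₀⟩ := c.exists_point g b hb z hz
  have e : ι.base (c.v.base x₀) = g.base z := by rw [hx₀, hb]
  obtain ⟨h, hh₀, huniq⟩ := c.existsUnique_lift₀ g b hb hZ z hz x₀ hx₀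
  rw [← hx₀]
  haveI := c.isIso_stalkMap x₀
  refine ⟨h.comp (c.v.stalkMap x₀).hom, (c.isLift_iff g z hz x₀ e h).1 hh₀, fun h' hh' => ?_⟩
  let h'' : c.V.presheaf.stalk x₀ →+* Z.presheaf.stalk z := h'.comp (inv (c.v.stalkMap x₀)).hom
  have e' : h''.comp (c.v.stalkMap x₀).hom = h' := RingHom.ext fun t => by
    show h' ((c.v.stalkMap x₀ ≫ inv (c.v.stalkMap x₀)) t) = h' t
    rw [IsIso.hom_inv_id]; rfl
  rw [← huniq h'' ((c.isLift_iff g z hz x₀ e h'').2 (by rw [e']; exact hh')), e']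

variable (hh : HensSch.IsHenselizationAlong X Y Xh ι) (hZ : HensSch.IsHensScheme Z)

/-- The stalk maps of the lift. -/
def H (z : Z) : Xh.presheaf.stalk (b z) →+* Z.presheaf.stalk z :=
  (existsUnique_lift g b hb hh hZ z).choose

theorem H_spec (z : Z) : IsLift (ι := ι) g z (b z) (H g b hb hh hZ z) :=
  (existsUnique_lift g b hb hh hZ z).choose_spec.1

theorem H_unique (z : Z) {h : Xh.presheaf.stalk (b z) →+* Z.presheaf.stalk z}
    (h' : IsLift (ι := ι) g z (b z) h) : h = H g b hb hh hZ z :=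
  (existsUnique_lift g b hb hh hZ z).choose_spec.2 h h'

theorem isLocalHom_H (z : Z) : IsLocalHom (H g b hb hh hZ z) := by
  obtain ⟨c, hc⟩ := exists_chart hh (b z)
  have hz : g.base z ∈ c.U0 := by rw [← hb]; exact hc
  obtain ⟨x₀, hx₀⟩ := c.exists_point g b hb z hz
  have e : ι.base (c.v.base x₀) = g.base z := by rw [hx₀, hb]
  obtain ⟨h, hh₀, -⟩ := c.existsUnique_lift₀ g b hb hZ z hz x₀ hx₀
  have hloc₀ : IsLocalHom h := by
    refine ⟨fun t ht => ?_⟩
    obtain ⟨D, hD, s, rfl⟩ := exists_G_eq x₀ t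
    obtain ⟨f, hf, hfle⟩ := exists_dOpen_le c.sph.1 D hD
    rw [← G_res hfle x₀ hf] at ht ⊢
    obtain ⟨n, a, hna⟩ := S17949.exists_congr_of_isHensAway (c.sph.2.2 f) (res hfle s)
    let m := IsLocalRing.maximalIdeal (c.V.presheaf.stalk x₀)
    let F := G (HensSch.dOpen c.π f) x₀ hf
    have hcomap : (c.I.map (HensSch.secMap c.π (PrimeSpectrum.basicOpen f))) ≤
        (Ideal.comap (h.comp F) (IsLocalRing.maximalIdeal (Z.presheaf.stalk z))) ⊓ Ideal.comap F m := by
      rw [Ideal.map_le_iff_le_comap]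
      intro i hi
      have h1 : c.π.base x₀ ∈ PrimeSpectrum.zeroLocus (c.I : Set c.A) := c.sph.2.1 ▸ ⟨x₀, rfl⟩
      refine ⟨?_, ?_⟩
      · show h (F (HensSch.secMap c.π (PrimeSpectrum.basicOpen f) i)) ∈ IsLocalRing.maximalIdeal (Z.presheaf.stalk z)
        rw [show F (HensSch.secMap c.π (PrimeSpectrum.basicOpen f) i) = toStalk c.π x₀ i from
          germ_secMap c.π _ x₀ hf i, ← RingHom.comp_apply, hh₀, IsLocalRing.mem_maximalIdeal, mem_nonunits_iff]
        exact fun hu => (c.isUnit_lam_iff g hz e i).1 hu (h1 hi)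
      · exact isUnit_germ_secMap c.sph (PrimeSpectrum.basicOpen f) hf hi
    obtain ⟨d1, d2⟩ := hcomap hna
    change h (F (res hfle s * HensSch.secMap c.π (PrimeSpectrum.basicOpen f) f ^ n - HensSch.secMap c.π (PrimeSpectrum.basicOpen f) a)) ∈ IsLocalRing.maximalIdeal (Z.presheaf.stalk z) at d1
    change F (res hfle s * HensSch.secMap c.π (PrimeSpectrum.basicOpen f) f ^ n - HensSch.secMap c.π (PrimeSpectrum.basicOpen f) a) ∈ m at d2
    have hfu : IsUnit (F (HensSch.secMap c.π (PrimeSpectrum.basicOpen f) f)) := (c.sph.2.2 f).1.map F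
    rw [map_sub, map_mul, map_pow] at d1 d2
    rw [map_sub, map_mul, map_pow] at d1
    have hua : IsUnit (h (F (HensSch.secMap c.π (PrimeSpectrum.basicOpen f) a))) := by
      by_contra hcon
      have := (IsLocalRing.maximalIdeal _).add_mem d1 ((IsLocalRing.mem_maximalIdeal _).2 hcon)
      rw [sub_add_cancel] at this
      exact this (ht.mul ((hfu.map h).pow n))
    rw [show F (HensSch.secMap c.π (PrimeSpectrum.basicOpen f) a) = toStalk c.π x₀ a from
      germ_secMap c.π _ x₀ hf a, ← RingHom.comp_apply, hh₀, c.isUnit_lam_iff g hz e a] at hua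
    have hua' : IsUnit (F (HensSch.secMap c.π (PrimeSpectrum.basicOpen f) a)) :=
      (S17949.isUnit_germ_secMap_iff c.π _ a hf).2 hua
    show IsUnit (F (res hfle s))
    by_contra hcon
    have := m.sub_mem (Ideal.mul_mem_right (F (HensSch.secMap c.π (PrimeSpectrum.basicOpen f) f) ^ n) m
      ((IsLocalRing.mem_maximalIdeal _).2 hcon)) d2
    rw [sub_sub_cancel] at this
    exact this hua'
  haveI : IsLocalHom (c.v.stalkMap x₀).hom := inferInstance
  have hl : IsLocalHom (h.comp (c.v.stalkMap x₀).hom) := RingHom.isLocalHom_comp _ _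
  have key : ∀ x, x = b z → ∀ (k : Xh.presheaf.stalk x →+* Z.presheaf.stalk z), IsLift (ι := ι) g z x k →
      IsLocalHom k → IsLocalHom (H g b hb hh hZ z) := by
    rintro x rfl k hk hl
    rwa [← H_unique g b hb hh hZ z hk]
  exact key _ hx₀ _ ((c.isLift_iff g z hz x₀ e h).1 hh₀) hl

theorem exists_local_rep (U : Opens Xh) (s : Xh.presheaf.obj (op U)) (z : Z) (hz : b z ∈ U)
    (hbcont : Continuous b) :
    ∃ (W : Opens Z) (_ : z ∈ W) (t : Z.presheaf.obj (op W)), ∀ z' (hz' : z' ∈ W),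
      ∃ hU : b z' ∈ U, G W z' hz' t = H g b hb hh hZ z' (G U (b z') hU s) := by
  obtain ⟨c, hc⟩ := exists_chart hh (b z)
  have hz0 : g.base z ∈ c.U0 := by rw [← hb]; exact hc
  obtain ⟨x₀, hx₀⟩ := c.exists_point g b hb z hz0
  obtain ⟨f, hf, hfle⟩ := exists_dOpen_le c.sph.1 ((Opens.map c.v.base).obj U)
    (show c.v.base x₀ ∈ U by rw [hx₀]; exact hz)
  let P : Set Xh := c.v.base '' (HensSch.dOpen c.π f : Set c.V)
  have hP : IsOpen P := (inferInstance : LocallyRingedSpace.IsOpenImmersion c.v).base_open.isOpenMap _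
    (HensSch.dOpen c.π f).isOpen
  let W : Opens Z := ⟨b ⁻¹' P, hP.preimage hbcont⟩
  have hW : W ≤ c.pre g := by
    rintro z' ⟨y, -, hy⟩
    show g.base z' ∈ c.U0
    rw [← hb, ← hy]; exact c.range_mem y
  have hfu : IsUnit (c.lamW g hW f) := by
    refine RingedSpace.isUnit_of_isUnit_germ Z.toRingedSpace W _ ?_
    rintro z' hz'
    show IsUnit (G W z' hz' _)
    rw [c.G_lamW]
    obtain ⟨y, hyf, hy⟩ := hz'
    exact (c.isUnit_lam_iff g _ (by rw [hy, hb]) f).2 hyf
  obtain ⟨θ, hθ, -⟩ := (c.sph.2.2 f).2.2 _ (van W) (c.lamW g hW) (henselianRing_van hZ W)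
    (c.map_I_le g b hb hW) hfu
  let sf : c.V.presheaf.obj (op (HensSch.dOpen c.π f)) := res hfle (c.v.c.app (op U) s)
  refine ⟨W, ⟨x₀, hf, hx₀⟩, θ sf, fun z' hz' => ?_⟩
  obtain ⟨y, hyf, hy⟩ := hz'
  have hzc : g.base z' ∈ c.U0 := hW ⟨y, hyf, hy⟩
  have e : ι.base (c.v.base y) = g.base z' := by rw [hy, hb]
  obtain ⟨h, hh₀, -⟩ := c.existsUnique_lift₀ g b hb hZ z' hzc y hy
  refine ⟨hy ▸ hfle hyf, ?_⟩
  have e1 : h.comp (G (HensSch.dOpen c.π f) y hyf) = (G W z' ⟨y, hyf, hy⟩).comp θ := by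
    obtain ⟨k, -, hk⟩ := (c.sph.2.2 f).2.2 _ (stVan z') (c.lam g z' hzc) (henselianRing_stVan hZ z')
      (c.map_I_le_stVan g b hb z' hzc) ((c.isUnit_lam_iff g hzc e f).2 hyf)
    refine (hk _ ?_).trans (hk _ ?_).symm
    · refine RingHom.ext fun a => ?_
      show h (G _ y hyf (HensSch.secMap c.π (PrimeSpectrum.basicOpen f) a)) = _
      rw [show G _ y hyf (HensSch.secMap c.π (PrimeSpectrum.basicOpen f) a) = toStalk c.π y a from
        germ_secMap c.π _ y hyf a, ← RingHom.comp_apply, hh₀]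
    · refine RingHom.ext fun a => ?_
      show G W z' _ (θ (HensSch.secMap c.π (PrimeSpectrum.basicOpen f) a)) = _
      rw [← RingHom.comp_apply θ, hθ]
      exact c.G_lamW g hW z' _ a
  have key : ∀ x, ∀ hx : x = b z', ∀ (hxU : x ∈ U) (k : Xh.presheaf.stalk x →+* Z.presheaf.stalk z'),
      IsLift (ι := ι) g z' x k → k (G U x hxU s) = H g b hb hh hZ z' (G U (b z') (hx ▸ hxU) s) := by
    rintro x rfl hxU k hk
    rw [H_unique g b hb hh hZ z' hk]
  refine Eq.trans ?_ (key _ hy (hfle hyf) _ ((c.isLift_iff g z' hzc y e h).1 hh₀))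
  exact ((RingHom.congr_fun e1 sf).symm.trans (congrArg h (G_res hfle y hyf _))).trans
    (congrArg h (stalkMap_G c.v U y (hfle hyf) s).symm)

end

end Groth.Agent.HensMod85
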