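import Groth.Agent.HensMod85.Flat
import Groth.Agent.Hensel.Pair
import Groth.Agent.S17949
import Mathlib.Algebra.Polynomial.Identities
import Mathlib.Algebra.Polynomial.Lifts

/-!
# On a Henselian scheme the functions vanishing at every point form Henselian pairs
-/

set_option autoImplicit false
set_option linter.style.haveILetI false

universe u

open CategoryTheory CategoryTheory.Limits AlgebraicGeometry TopologicalSpace Opposite Topology Polynomial

namespace Groth.Agent.HensMod85

noncomputable section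

/-- Simple roots in a local ring are determined by their residues. -/
theorem root_unique {R : Type*} [CommRing R] [IsLocalRing R] (f : R[X]) {a b : R} (ha : f.IsRoot a)
    (hb : f.IsRoot b) (hd : a - b ∈ IsLocalRing.maximalIdeal R) (hu : IsUnit (f.derivative.eval b)) :
    a = b := by
  obtain ⟨k, hk⟩ := f.binomExpansion b (a - b)
  rw [add_sub_cancel, ha.eq_zero, hb.eq_zero, zero_add] at hk
  have h2 : IsUnit (f.derivative.eval b + k * (a - b)) := by
    by_contra h
    have := (IsLocalRing.maximalIdeal R).sub_mem ((IsLocalRing.mem_maximalIdeal _).2 h)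
      (Ideal.mul_mem_left _ k hd)
    rw [add_sub_cancel_right] at this
    exact this hu
  refine sub_eq_zero.1 (h2.mul_right_eq_zero.1 ?_)
  rw [hk]; ring

variable {X : LocallyRingedSpace.{u}}

/-- The germ as a ring homomorphism. -/
abbrev G (W : Opens X) (x : X) (hx : x ∈ W) : X.presheaf.obj (op W) →+* X.presheaf.stalk x :=
  (X.presheaf.germ W x hx).hom

/-- Restriction as a ring homomorphism. -/
abbrev res {V W : Opens X} (h : V ≤ W) : X.presheaf.obj (op W) →+* X.presheaf.obj (op V) :=
  (X.presheaf.map (homOfLE h).op).hom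

theorem G_res {V W : Opens X} (h : V ≤ W) (x : X) (hx : x ∈ V) (s : X.presheaf.obj (op W)) :
    G V x hx (res h s) = G W x (h hx) s :=
  X.presheaf.germ_res_apply (homOfLE h) x hx s

theorem G_comp_res {V W : Opens X} (h : V ≤ W) (x : X) (hx : x ∈ V) :
    (G V x hx).comp (res h) = G W x (h hx) :=
  RingHom.ext (G_res h x hx)

theorem exists_G_eq (x : X) (t : X.presheaf.stalk x) :
    ∃ (W : Opens X) (hx : x ∈ W) (s : X.presheaf.obj (op W)), G W x hx s = t := by
  obtain ⟨W, hx, s, hs⟩ := X.presheaf.exists_germ_eq (x := x) t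
  exact ⟨W, hx, s, hs⟩

/-- The sections vanishing at every point. -/
def van (W : Opens X) : Ideal (X.presheaf.obj (op W)) :=
  ⨅ x : W, (IsLocalRing.maximalIdeal (X.presheaf.stalk x.1)).comap (G W x.1 x.2)

theorem mem_van {W : Opens X} {s : X.presheaf.obj (op W)} :
    s ∈ van W ↔ ∀ x (hx : x ∈ W), G W x hx s ∈ IsLocalRing.maximalIdeal (X.presheaf.stalk x) := by
  simp only [van, Ideal.mem_iInf, Ideal.mem_comap, Subtype.forall]

theorem res_mem_van {V W : Opens X} (h : V ≤ W) {s : X.presheaf.obj (op W)} (hs : s ∈ van W) :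
    res h s ∈ van V :=
  mem_van.2 fun x hx => by rw [G_res]; exact mem_van.1 hs x (h hx)

theorem van_le_jacobson (W : Opens X) : van W ≤ Ideal.jacobson ⊥ := fun s hs => by
  rw [Ideal.mem_jacobson_bot]
  intro y
  refine RingedSpace.isUnit_of_isUnit_germ X.toRingedSpace W _ fun x hx => ?_
  show IsUnit (G W x hx (s * y + 1))
  rw [map_add, map_mul, map_one]
  by_contra h
  have := (IsLocalRing.maximalIdeal _).sub_mem ((IsLocalRing.mem_maximalIdeal _).2 h)
    (Ideal.mul_mem_right (G W x hx y) _ (mem_van.1 hs x hx))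
  rw [add_sub_cancel_left] at this
  exact this isUnit_one

theorem isUnit_G_of_isUnit_mk {W : Opens X} {s : X.presheaf.obj (op W)}
    (h : IsUnit (Ideal.Quotient.mk (van W) s)) (x : X) (hx : x ∈ W) : IsUnit (G W x hx s) := by
  obtain ⟨t, ht⟩ := h.exists_right_inv
  obtain ⟨t, rfl⟩ := Ideal.Quotient.mk_surjective t
  rw [← map_mul, ← map_one (Ideal.Quotient.mk (van W)), Ideal.Quotient.eq] at ht
  have := mem_van.1 ht x hx
  rw [map_sub, map_mul, map_one] at this
  by_contra h
  have h2 := (IsLocalRing.maximalIdeal _).sub_mem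
    (Ideal.mul_mem_right (G W x hx t) _ ((IsLocalRing.mem_maximalIdeal _).2 h)) this
  rw [sub_sub_cancel] at h2
  exact h2 isUnit_one

theorem isUnit_mk_of_isUnit_G {W : Opens X} {s : X.presheaf.obj (op W)}
    (h : ∀ x (hx : x ∈ W), IsUnit (G W x hx s)) : IsUnit (Ideal.Quotient.mk (van W) s) :=
  (RingedSpace.isUnit_of_isUnit_germ X.toRingedSpace W s h).map _

theorem isUnit_germ_secMap {A : Type u} [CommRing A] {I : Ideal A} {π : X ⟶ HensSch.specLRS A}
    (h : HensSch.IsSph A I X π) (U : Opens (PrimeSpectrum A)) {x : X}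
    (hx : x ∈ (Opens.map π.base).obj U) {i : A} (hi : i ∈ I) :
    G _ x hx (HensSch.secMap π U i) ∈ IsLocalRing.maximalIdeal (X.presheaf.stalk x) := by
  rw [IsLocalRing.mem_maximalIdeal, mem_nonunits_iff]
  intro hu
  have h1 : π.base x ∈ PrimeSpectrum.zeroLocus (I : Set A) := h.2.1 ▸ ⟨x, rfl⟩
  exact (S17949.isUnit_germ_secMap_iff π U i hx).1 hu (h1 hi)

theorem henselianRing_van_dOpen {A : Type u} [CommRing A] {I : Ideal A} {π : X ⟶ HensSch.specLRS A}
    (h : HensSch.IsSph A I X π) (f : A) :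
    HenselianRing (X.presheaf.obj (op (HensSch.dOpen π f))) (van (HensSch.dOpen π f)) := by
  let φ := HensSch.secMap π (PrimeSpectrum.basicOpen f)
  have hB : HenselianRing (X.presheaf.obj (op (HensSch.dOpen π f))) (I.map φ) := (h.2.2 f).2.1
  refine Hensel.henselianRing_of_radical_eq (I := I.map φ) (fun s hs => ?_)
  obtain ⟨n, a, hna⟩ := S17949.exists_congr_of_isHensAway (h.2.2 f) s
  have hfa : f * a ∈ I.radical := by
    rw [Ideal.radical_eq_sInf, Ideal.mem_sInf]
    intro p hp
    have : p.IsPrime := hp.2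
    by_cases hf : f ∈ p
    · exact Ideal.mul_mem_right _ _ hf
    refine Ideal.mul_mem_left _ _ ?_
    obtain ⟨x, hx⟩ : (⟨p, hp.2⟩ : PrimeSpectrum A) ∈ Set.range π.base := h.2.1 ▸ hp.1
    have hxf : x ∈ HensSch.dOpen π f := by
      show π.base x ∈ PrimeSpectrum.basicOpen f
      rw [hx]; exact hf
    have h1 : G _ x hxf (s * φ f ^ n - φ a) ∈ IsLocalRing.maximalIdeal (X.presheaf.stalk x) :=
      (Ideal.map_le_iff_le_comap (K := (IsLocalRing.maximalIdeal _).comap (G _ x hxf))).2
        (fun i hi => isUnit_germ_secMap h (PrimeSpectrum.basicOpen f) hxf hi) hna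
    have h2 := Ideal.mul_mem_right (G _ x hxf (φ f ^ n)) _ (mem_van.1 hs x hxf)
    rw [← map_mul] at h2
    rw [map_sub] at h1
    have h3 := (IsLocalRing.maximalIdeal (X.presheaf.stalk x)).sub_mem h2 h1
    rw [sub_sub_cancel] at h3
    by_contra ha
    refine h3 ((S17949.isUnit_germ_secMap_iff π _ a hxf).2 ?_)
    show π.base x ∈ PrimeSpectrum.basicOpen a
    rw [hx]; exact ha
  have hu : IsUnit (φ f) := (h.2.2 f).1
  have ha : φ a ∈ (I.map φ).radical := by
    have := Ideal.map_radical_le φ (Ideal.mem_map_of_mem φ hfa)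
    rw [map_mul] at this
    exact (Ideal.unit_mul_mem_iff_mem _ hu).1 this
  have hs' : s * φ f ^ n ∈ (I.map φ).radical := by
    have := (I.map φ).radical.add_mem (Ideal.le_radical hna) ha
    rwa [sub_add_cancel] at this
  exact (Ideal.mul_unit_mem_iff_mem _ (hu.pow n)).1 hs'

/-- The local form of the Henselian property. -/
theorem exists_root_nhd (hX : HensSch.IsHensScheme X) {W : Opens X} (f : (X.presheaf.obj (op W))[X])
    (hf : f.Monic) (a₀ : X.presheaf.obj (op W)) (h1 : f.eval a₀ ∈ van W)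
    (h2 : ∀ x (hx : x ∈ W), IsUnit (G W x hx (f.derivative.eval a₀))) (x : X) (hx : x ∈ W) :
    ∃ (W' : Opens X) (h : W' ≤ W) (r : X.presheaf.obj (op W')),
      x ∈ W' ∧ (f.map (res h)).IsRoot r ∧ r - res h a₀ ∈ van W' := by
  obtain ⟨U, i, hi, ⟨u, hu⟩, A, _, I, π, hA, -, hsph⟩ := hX x
  subst hu
  obtain ⟨f₀, huf, hf₀⟩ := exists_dOpen_le hsph.1 ((Opens.map i.base).obj W) hx
  let W' : Opens X := (LocallyRingedSpace.IsOpenImmersion.opensFunctor i).obj (HensSch.dOpen π f₀)
  have hW' : W' ≤ W := by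
    rintro _ ⟨y, hy, rfl⟩
    exact hf₀ hy
  have hD : (Opens.map i.base).obj W' = HensSch.dOpen π f₀ := Opens.ext
    (Set.preimage_image_eq _ (inferInstance : LocallyRingedSpace.IsOpenImmersion i).base_open.injective)
  let D' : Opens U := (Opens.map i.base).obj W'
  have hpair : HenselianRing (U.presheaf.obj (op D')) (van D') := by
    have : ∀ D : Opens U, D = HensSch.dOpen π f₀ → HenselianRing (U.presheaf.obj (op D)) (van D) := by
      rintro D rfl
      exact henselianRing_van_dOpen hsph f₀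
    exact this D' hD
  haveI : IsIso (i.c.app (op W')) :=
    PresheafedSpace.IsOpenImmersion.c_iso (f := i.toShHom.hom) (HensSch.dOpen π f₀)
  let e : X.presheaf.obj (op W') →+* U.presheaf.obj (op D') := (i.c.app (op W')).hom
  have hebij : Function.Bijective e := ConcreteCategory.bijective_of_isIso (i.c.app (op W'))
  have hG : ∀ (y : U) (hy : y ∈ D') (s : X.presheaf.obj (op W')),
      (i.stalkMap y).hom (G W' (i.base y) hy s) = G D' y hy (e s) :=
    fun y hy s => LocallyRingedSpace.stalkMap_germ_apply i W' y hy s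
  have hvan : ∀ (y : U) (hy : y ∈ D') (s : X.presheaf.obj (op W')),
      IsUnit (G D' y hy (e s)) ↔ IsUnit (G W' (i.base y) hy s) := fun y hy s => by
    rw [← hG]; exact isUnit_map_iff (i.stalkMap y).hom _
  let φ := e.comp (res hW')
  obtain ⟨r, hr, hrv⟩ := hpair.is_henselian (f.map φ) (hf.map φ) (φ a₀)
    (by
      rw [eval_map_apply]
      refine mem_van.2 fun y hy => ?_
      show ¬ IsUnit (G D' y hy (e (res hW' (f.eval a₀))))
      rw [hvan]
      exact fun hu => mem_van.1 h1 _ _ ((congrArg IsUnit (G_res hW' (i.base y) hy _)).mp hu))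
    (by
      rw [derivative_map, eval_map_apply]
      refine isUnit_mk_of_isUnit_G fun y hy => ?_
      show IsUnit (G D' y hy (e (res hW' (f.derivative.eval a₀))))
      rw [hvan]
      exact (congrArg IsUnit (G_res hW' (i.base y) hy _)).mpr (h2 _ _))
  obtain ⟨r, rfl⟩ := hebij.2 r
  refine ⟨W', hW', r, ⟨u, huf, rfl⟩, ?_, mem_van.2 ?_⟩
  · refine hebij.1 ?_
    rw [← eval_map_apply, Polynomial.map_map, map_zero]
    exact hr
  · rintro _ ⟨y, hy, rfl⟩
    have hy' : y ∈ D' := ⟨y, hy, rfl⟩
    show ¬ IsUnit (G W' (i.base y) hy' _)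
    rw [← hvan y hy', map_sub]
    exact mem_van.1 hrv y hy'

/-- The sections vanishing at every point form a Henselian pair on every open. -/
theorem henselianRing_van (hX : HensSch.IsHensScheme X) (W : Opens X) :
    HenselianRing (X.presheaf.obj (op W)) (van W) where
  jac := van_le_jacobson W
  is_henselian f hf a₀ h1 h2 := by
    have h2' := isUnit_G_of_isUnit_mk h2
    choose W' hle r hxW hr hrv using fun x : W => exists_root_nhd hX f hf a₀ h1 h2' x.1 x.2
    have key : ∀ (a : W) (x : X) (hx : x ∈ W' a) (ρ : X.presheaf.stalk x), (f.map (G W x (hle a hx))).IsRoot ρ →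
        ρ - G W x (hle a hx) a₀ ∈ IsLocalRing.maximalIdeal (X.presheaf.stalk x) →
        ρ = G (W' a) x hx (r a) := by
      intro a x hx ρ hρ hρv
      have hr0 : G (W' a) x hx ((f.map (res (hle a))).eval (r a)) = 0 := by rw [hr a, map_zero]
      rw [← eval_map_apply, Polynomial.map_map, G_comp_res] at hr0
      have hrm := mem_van.1 (hrv a) x hx
      rw [map_sub, G_res] at hrm
      refine root_unique _ hρ hr0 ?_ ?_
      · have := (IsLocalRing.maximalIdeal (X.presheaf.stalk x)).sub_mem hρv hrm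
        rwa [sub_sub_sub_cancel_right] at this
      · have hu := h2' x (hle a hx)
        rw [← eval_map_apply, ← derivative_map] at hu
        by_contra hc
        have hdiv := (f.map (G W x (hle a hx))).derivative.evalSubFactor (G (W' a) x hx (r a)) (G W x (hle a hx) a₀)
        have h3 := (IsLocalRing.maximalIdeal _).sub_mem ((IsLocalRing.mem_maximalIdeal _).2 hc)
          (Ideal.mul_mem_left _ hdiv.1 hrm)
        rw [← hdiv.2, sub_sub_cancel] at h3
        exact h3 hu
    have hcompat : TopCat.Presheaf.IsCompatible X.sheaf.1 W' r := by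
      intro a b
      refine TopCat.Presheaf.section_ext (F := X.sheaf) _ _ _ fun x hx => ?_
      refine (G_res (inf_le_left : W' a ⊓ W' b ≤ W' a) x hx (r a)).trans
        (Eq.trans ?_ (G_res (inf_le_right : W' a ⊓ W' b ≤ W' b) x hx (r b)).symm)
      refine key b x hx.2 _ ?_ ?_
      · have hr0 : G (W' a) x hx.1 ((f.map (res (hle a))).eval (r a)) = 0 := by rw [hr a, map_zero]
        rwa [← eval_map_apply, Polynomial.map_map, G_comp_res] at hr0
      · have hrm := mem_van.1 (hrv a) x hx.1
        rwa [map_sub, G_res] at hrm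
    obtain ⟨t, ht, -⟩ := X.sheaf.existsUnique_gluing' W' W (fun a => homOfLE (hle a))
      (fun x hx => Opens.mem_iSup.2 ⟨⟨x, hx⟩, hxW ⟨x, hx⟩⟩) r hcompat
    have htG : ∀ (a : W) (x : X) (hx : x ∈ W' a), G W x (hle a hx) t = G (W' a) x hx (r a) :=
      fun a x hx => (G_res (hle a) x hx t).symm.trans (congrArg _ (ht a))
    refine ⟨t, ?_, mem_van.2 fun x hx => ?_⟩
    · refine TopCat.Presheaf.section_ext (F := X.sheaf) _ _ _ fun x hx => ?_
      show G W x hx (f.eval t) = G W x hx 0
      have hr0 : G (W' ⟨x, hx⟩) x (hxW ⟨x, hx⟩) ((f.map (res (hle ⟨x, hx⟩))).eval (r ⟨x, hx⟩)) = 0 := by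
        rw [hr, map_zero]
      rw [← eval_map_apply, Polynomial.map_map, G_comp_res, ← htG] at hr0
      exact (((eval_map_apply (p := f) (f := G W x hx) t).symm.trans hr0).trans (map_zero (G W x hx)).symm)
    · have hrm := mem_van.1 (hrv ⟨x, hx⟩) x (hxW ⟨x, hx⟩)
      rw [map_sub, G_res, ← htG] at hrm
      exact (congrArg (· ∈ IsLocalRing.maximalIdeal (X.presheaf.stalk x)) (map_sub (G W x hx) t a₀)).mpr hrm

/-- The germs vanishing on a neighbourhood. -/
def stVan (x : X) : Ideal (X.presheaf.stalk x) where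
  carrier := {t | ∃ (W : Opens X) (hx : x ∈ W) (s : X.presheaf.obj (op W)), s ∈ van W ∧ G W x hx s = t}
  zero_mem' := ⟨⊤, trivial, 0, (van _).zero_mem, map_zero _⟩
  add_mem' := by
    rintro _ _ ⟨W, hx, s, hs, rfl⟩ ⟨W', hx', s', hs', rfl⟩
    exact ⟨W ⊓ W', ⟨hx, hx'⟩, res inf_le_left s + res inf_le_right s',
      (van _).add_mem (res_mem_van _ hs) (res_mem_van _ hs'), (map_add _ _ _).trans
        (congrArg₂ (· + ·) (G_res inf_le_left x _ s) (G_res inf_le_right x _ s'))⟩
  smul_mem' := by
    rintro c _ ⟨W, hx, s, hs, rfl⟩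
    obtain ⟨W', hx', c, rfl⟩ := exists_G_eq x c
    exact ⟨W ⊓ W', ⟨hx, hx'⟩, res inf_le_right c * res inf_le_left s,
      (van _).mul_mem_left _ (res_mem_van _ hs), (map_mul _ _ _).trans
        (congrArg₂ (· * ·) (G_res inf_le_right x _ c) (G_res inf_le_left x _ s))⟩

theorem G_mem_stVan {W : Opens X} {x : X} (hx : x ∈ W) {s : X.presheaf.obj (op W)} (hs : s ∈ van W) :
    G W x hx s ∈ stVan x :=
  ⟨W, hx, s, hs, rfl⟩

theorem stVan_le (x : X) : stVan x ≤ IsLocalRing.maximalIdeal (X.presheaf.stalk x) := by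
  rintro _ ⟨W, hx, s, hs, rfl⟩
  exact mem_van.1 hs x hx

theorem isUnit_of_mk_stVan {x : X} {t : X.presheaf.stalk x} (h : IsUnit (Ideal.Quotient.mk (stVan x) t)) :
    IsUnit t := by
  obtain ⟨u, hu⟩ := h.exists_right_inv
  obtain ⟨u, rfl⟩ := Ideal.Quotient.mk_surjective u
  rw [← map_mul, ← map_one (Ideal.Quotient.mk (stVan x)), Ideal.Quotient.eq] at hu
  by_contra hc
  have h2 := (IsLocalRing.maximalIdeal _).sub_mem
    (Ideal.mul_mem_right u _ ((IsLocalRing.mem_maximalIdeal _).2 hc)) (stVan_le x hu)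
  rw [sub_sub_cancel] at h2
  exact h2 isUnit_one

/-- The stalks of a Henselian scheme with these germs are Henselian pairs. -/
theorem henselianRing_stVan (hX : HensSch.IsHensScheme X) (x : X) :
    HenselianRing (X.presheaf.stalk x) (stVan x) where
  jac := (stVan_le x).trans (IsLocalRing.maximalIdeal_le_jacobson _)
  is_henselian f hf a₀ h1 h2 := by
    classical
    have hlift : ∀ g : (X.presheaf.stalk x)[X], ∃ (W : Opens X) (hx : x ∈ W),
        g ∈ Polynomial.lifts (G W x hx) := by
      intro g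
      induction g using Polynomial.induction_on' with
      | add p q hp hq =>
        obtain ⟨W, hW, p₀, rfl⟩ := hp
        obtain ⟨W', hW', q₀, rfl⟩ := hq
        refine ⟨W ⊓ W', ⟨hW, hW'⟩, p₀.map (res inf_le_left) + q₀.map (res inf_le_right), ?_⟩
        simp only [Polynomial.coe_mapRingHom, Polynomial.map_add, Polynomial.map_map]
        exact congrArg₂ (· + ·) (congrArg (fun φ => p₀.map φ) (G_comp_res inf_le_left x _))
          (congrArg (fun φ => q₀.map φ) (G_comp_res inf_le_right x _))
      | monomial n c =>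
        obtain ⟨W, hW, c, rfl⟩ := exists_G_eq x c
        exact ⟨W, hW, Polynomial.monomial n c, by simp⟩
    obtain ⟨W₁, hx₁, hfl⟩ := hlift f
    obtain ⟨q, rfl, -, hq⟩ := Polynomial.lifts_and_natDegree_eq_and_monic hfl hf
    obtain ⟨W₂, hx₂, a, rfl⟩ := exists_G_eq x a₀
    obtain ⟨W₃, hx₃, s, hs, hse⟩ := h1
    let W₄ : Opens X := W₁ ⊓ W₂ ⊓ W₃
    have hx₄ : x ∈ W₄ := ⟨⟨hx₁, hx₂⟩, hx₃⟩
    have l₁ : W₄ ≤ W₁ := inf_le_left.trans inf_le_left
    have l₂ : W₄ ≤ W₂ := inf_le_left.trans inf_le_right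
    have l₃ : W₄ ≤ W₃ := inf_le_right
    have hev : G W₄ x hx₄ ((q.map (res l₁)).eval (res l₂ a)) = G W₄ x hx₄ (res l₃ s) := by
      rw [← eval_map_apply, Polynomial.map_map, G_comp_res, G_res, G_res]
      exact hse.symm
    obtain ⟨W₅, hx₅, i₁, i₂, e⟩ := X.presheaf.germ_eq x hx₄ hx₄ _ _ hev
    let W₆ : Opens X := X.toRingedSpace.basicOpen
      (res i₁.le ((q.map (res l₁)).derivative.eval (res l₂ a)) : X.presheaf.obj (op W₅))
    have hW₆ : W₆ ≤ W₅ := X.toRingedSpace.basicOpen_le _
    have hx₆ : x ∈ W₆ := by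
      rw [RingedSpace.mem_basicOpen _ _ x hx₅]
      show IsUnit (G W₅ x hx₅ _)
      rw [G_res, ← eval_map_apply, ← derivative_map, Polynomial.map_map, G_comp_res, G_res]
      exact isUnit_of_mk_stVan h2
    let m : W₆ ≤ W₄ := hW₆.trans i₁.le
    obtain ⟨r, hr, hrv⟩ := (henselianRing_van hX W₆).is_henselian
      ((q.map (res l₁)).map (res m)) ((hq.map _).map _) (res m (res l₂ a))
      (by
        rw [eval_map_apply]
        have : res m ((q.map (res l₁)).eval (res l₂ a)) = res m (res l₃ s) :=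
          TopCat.Presheaf.section_ext (F := X.sheaf) _ _ _ fun y hy => by
            show G W₆ y hy _ = G W₆ y hy _
            have e1 := G_res i₁.le y (hW₆ hy) ((q.map (res l₁)).eval (res l₂ a))
            have e2 := G_res i₂.le y (hW₆ hy) (res l₃ s)
            rw [G_res, G_res, ← e1, ← e2]
            exact congrArg (G W₅ y (hW₆ hy)) e
        rw [this]
        exact res_mem_van _ (res_mem_van _ hs))
      (by
        rw [derivative_map, eval_map_apply]
        refine isUnit_mk_of_isUnit_G fun y hy => ?_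
        have := (RingedSpace.mem_basicOpen _ _ y (hW₆ hy)).1 hy
        change IsUnit (G W₅ y (hW₆ hy) (res i₁.le _)) at this
        rw [G_res] at this
        rw [G_res]
        exact this)
    refine ⟨G W₆ x hx₆ r, ?_, ?_⟩
    · have h0 : G W₆ x hx₆ (((q.map (res l₁)).map (res m)).eval r) = 0 := by rw [hr, map_zero]
      rwa [← eval_map_apply, Polynomial.map_map, Polynomial.map_map, RingHom.comp_assoc,
        ← RingHom.comp_assoc, G_comp_res, G_comp_res] at h0
    · have := G_mem_stVan hx₆ hrv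
      rwa [map_sub, G_res, G_res] at this

end

end Groth.Agent.HensMod85
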